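import Cfsg.Agent.DCS.Defs
import Cfsg.Agent.Perm.FCStruct
import Cfsg.Agent.Solv.NilpotentHall

/-! Tower DCS: Frobenius complements with the eigenvector property, odd divisors of `p - 1`. -/

set_option autoImplicit false
set_option linter.unusedSectionVars false

namespace Cfsg.Lib.DCS

open Subgroup Cfsg.Lib.Perm Cfsg.Lib.Solv

universe u

namespace OddP

variable {p : ℕ} [Fact p.Prime] {E U : Type*} [Group E] [Finite E] [AddCommGroup U]
  [Module (ZMod p) U] [Finite U] {σ : E →* Module.End (ZMod p) U}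

theorem fpf (h : Frob p σ) : FPF σ := FPF.of_apply h.fpf

theorem isFC (h : Frob p σ) : IsFC E :=
  haveI := h.nontriv
  IsFC.of_fpf (fpf h)

/-- An element of prime order normalizing an abelian subgroup centralizes it. -/
theorem cent_of_prime (h : Frob p σ) {D : Subgroup E} (hD : ∀ a ∈ D, ∀ b ∈ D, a * b = b * a) {x : E}
    (hx : x ∈ normalizer (D : Set E)) {q : ℕ} (hq : q.Prime) (ho : orderOf x = q) :
    x ∈ centralizer (D : Set E) := by
  classical
  have := h.nontriv
  have := Fintype.ofFinite D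
  by_contra hn
  have h1 : ∀ i ∈ Finset.range (q - 1), ∑ d : D, σ ((d : E)⁻¹ * x * d) ^ (i + 1) = 0 := fun i hi => by
    have hi' := Finset.mem_range.1 hi
    obtain ⟨m, hm⟩ := exists_pow_eq_self_of_coprime (x := x) (n := i + 1)
      (ho ▸ (Nat.coprime_of_lt_prime (by omega) (by omega) hq).symm)
    obtain ⟨d, hd, hc⟩ : ∃ d ∈ D, d⁻¹ * (x ^ (i + 1) * d * (x ^ (i + 1))⁻¹) ≠ 1 := by
      by_contra! hc
      refine hn (hm ▸ pow_mem (mem_centralizer_iff.2 fun d hd => ?_) m)
      rw [← mul_inv_eq_iff_eq_mul.1 (inv_mul_eq_one.1 (hc d hd)).symm]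
    have hm := mul_mem (inv_mem hd) ((mem_normalizer_iff.1 (pow_mem hx (i + 1)) d).1 hd)
    refine (fpf h).eq_zero_of_mul hc ?_
    rw [sub_mul, one_mul, sub_eq_zero, Finset.mul_sum, ← Equiv.sum_comp (Equiv.mulLeft ⟨d, hd⟩)
      fun d : D => σ ((d : E)⁻¹ * x * d) ^ (i + 1)]
    refine Finset.sum_congr rfl fun e _ => ?_
    have e1 : ∀ a : E, (a⁻¹ * x * a) ^ (i + 1) = a⁻¹ * x ^ (i + 1) * a := fun a => by
      simpa using conj_pow (a := a⁻¹) (b := x) (i := i + 1)
    rw [← map_pow, ← map_pow, ← map_mul, e1, e1, ← mul_assoc, ← mul_assoc, hD _ hm _ (inv_mem e.2)]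
    congr 1
    simp only [Equiv.coe_mulLeft, coe_mul]
    group
  have h2 : ∑ d : D, ∑ i ∈ Finset.range q, σ ((d : E)⁻¹ * x * d) ^ i = 0 :=
    Finset.sum_eq_zero fun d _ => (fpf h).geom_sum (fun e => hn (by
      rw [show x = 1 from conj_eq_one_iff.1 (by simpa using e : (d : E)⁻¹ * x * (d : E)⁻¹⁻¹ = 1)]
      exact one_mem _)) (by
      simpa [← ho] using conj_pow (a := (d : E)⁻¹) (b := x) (i := orderOf x))
  rw [Finset.sum_comm, show q = q - 1 + 1 by have := hq.pos; omega, Finset.sum_range_succ',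
    Finset.sum_eq_zero h1, zero_add] at h2
  simp only [pow_zero, Finset.sum_const, Finset.card_univ, nsmul_eq_mul, mul_one] at h2
  rw [← map_natCast (algebraMap (ZMod p) (Module.End (ZMod p) U)), map_eq_zero,
    ZMod.natCast_eq_zero_iff, ← Nat.card_eq_fintype_card] at h2
  exact (fpf h).natCast_ne_zero Fact.out (h2.trans (card_subgroup_dvd_card D)) (ZMod.natCast_self p)

theorem comm_of_five (h : Frob p σ) {s : ℕ} (hs : s.Prime) (h2 : s ≠ 2) (h3 : s ≠ 3) {c d : E}
    (hc : orderOf c = s) (hd : orderOf d = s) : c * d = d * c := by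
  have := h.solv
  have := Fact.mk hs
  have cyc : ∀ (l : ℕ) [Fact l.Prime], l ≠ 2 → ∀ a ∈ pCore l E, ∀ b ∈ pCore l E, a * b = b * a :=
    fun l _ hl a ha b hb => by
      have := (isFC h).isCyclic_of_odd_prime hl (pCore_isPGroup l E)
      exact setLike_mul_comm ha hb
  have key : ∀ x : E, orderOf x = s → x ∈ pCore s E := fun x hx => by
    refine mem_pCore_of_mem_fitting (k := 1) (centralizer_fitting_le E (zpowers_le.1
      (le_centralizer_iff.1 (fitting_le_of_forall_pCore_le fun l _ =>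
        le_centralizer_iff.1 (zpowers_le.2 ?_))))) (by rw [hx, pow_one])
    by_cases hl : l = 2
    · subst hl
      by_contra hn
      have ho : (orderOf x).Coprime 2 := hx ▸ (Nat.coprime_primes hs Nat.prime_two).2 h2
      obtain ⟨e⟩ := q8_of_not_mem_centralizer (pCore_isPGroup 2 E)
        (fun _ _ _ _ a b c d => (isFC h).eq_of_sq a c b d) (le_normalizer_of_normal (mem_top x)) ho hn
      have := q8_three_dvd_orderOf e (le_normalizer_of_normal (mem_top x)) ho hn
      exact h3 ((Nat.prime_dvd_prime_iff_eq Nat.prime_three hs).1 (hx ▸ this)).symm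
    · exact cent_of_prime h (cyc l hl) (le_normalizer_of_normal (mem_top x)) hs hx
  exact cyc s h2 _ (key c hc) _ (key d hd)

theorem count_le (h : Frob p σ) {c : E} (hc : ∀ d : E, orderOf d = orderOf c → c * d = d * c) :
    Nat.card {d : E // orderOf d = orderOf c} ≤ orderOf c := by
  conv_rhs => rw [← Nat.card_zpowers]
  exact Nat.card_le_card_of_injective (fun d => ⟨d.1, (isFC h).mem_zpowers_of_commute (hc _ d.2)
    (orderOf_dvd_iff_pow_eq_one.1 d.2.dvd)⟩) fun a b e => Subtype.ext (congrArg Subtype.val e :)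

omit [Finite E] [Finite U] in
theorem orderOf_eq (h : Frob p σ) {c : E} {u : U} (hu : u ≠ 0) {a : (ZMod p)ˣ}
    (e : σ c u = (a : ZMod p) • u) : orderOf c = orderOf a := by
  have k : ∀ n : ℕ, σ (c ^ n) u = ((a ^ n : (ZMod p)ˣ) : ZMod p) • u := fun n => by
    induction n with
    | zero => simp
    | succ n ih => rw [pow_succ, map_mul, Module.End.mul_apply, e, map_smul, ih, smul_smul, pow_succ',
        Units.val_mul]
  refine orderOf_eq_orderOf_iff.2 fun n => ⟨fun e1 => ?_, fun e1 => h.fpf _ u hu (by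
    rw [k, e1, Units.val_one, one_smul])⟩
  have := k n
  rw [e1, map_one, Module.End.one_apply] at this
  exact Units.ext (smul_left_injective (ZMod p) hu (this.symm.trans (one_smul _ u).symm))

theorem count_three (h : Frob p σ) (hp : 2 < p) : Nat.card {d : E // orderOf d = 3} ≤ 9 := by
  have := h.nontriv
  have := Fact.mk hp
  obtain ⟨u, hu⟩ := exists_ne (0 : U)
  obtain ⟨z, hz⟩ := h.ev u (-1)
  have h2 : orderOf z = 2 := (orderOf_eq h hu hz).trans (orderOf_eq_prime (by simp) fun e =>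
    ZMod.neg_one_ne_one (n := p) (congrArg Units.val e))
  rcases (isFC h).ord3_cases (h2 ▸ orderOf_dvd_natCard z) with c | ⟨a, -, -, ⟨⟨e⟩⟩ | ⟨⟨e⟩⟩⟩
  · rcases isEmpty_or_nonempty {d : E // orderOf d = 3} with i | ⟨⟨d, hd⟩⟩
    · simp
    · have := count_le h (c := d) fun x hx => c d x hd (hx.trans hd)
      rw [hd] at this
      omega
  · have h9 : Nat.card {x : SL23 // x * x * x = 1} = 9 := by
      rw [Nat.card_eq_fintype_card]; decide +kernel
    refine h9 ▸ Nat.card_le_card_of_injective (fun d => ⟨e ⟨d.1, subset_closure d.2⟩, ?_⟩) fun a b e1 =>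
      Subtype.ext (congrArg Subtype.val (e.injective (congrArg Subtype.val e1)) :)
    rw [← map_mul, ← map_mul, ← pow_three', map_eq_one_iff _ e.injective]
    exact Subtype.ext (orderOf_dvd_iff_pow_eq_one.1 d.2.dvd : d.1 ^ 3 = 1)
  · have := h.solv
    exact absurd (Group.isSolvable_of_surjective (f := e.toMonoidHom) e.surjective) not_isSolvable_SL25

theorem cover (h : Frob p σ) {a : (ZMod p)ˣ} (ha : a * a ≠ 1) :
    ∃ c : E, orderOf c = orderOf a ∧ Module.End.eigenspace (σ c) a ≠ ⊥ ∧ ∃ k, k ≠ 0 ∧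
      Nat.card U = p ^ k * Nat.card (Module.End.eigenspace (σ c) a) ∧
      p ^ k ≤ Nat.card {d : E // orderOf d = orderOf a} := by
  classical
  have := h.nontriv
  have := Fintype.ofFinite E
  obtain ⟨u0, hu0⟩ := exists_ne (0 : U)
  obtain ⟨c, hc, -, h1⟩ := AddSubgroup.exists_index_le_card_of_leftCoset_cover
    (s := Finset.univ.filter fun c : E => ∃ u, u ≠ 0 ∧ σ c u = (a : ZMod p) • u)
    (H := fun c => (Module.End.eigenspace (σ c) a).toAddSubgroup) (g := fun _ => 0)
    (Set.eq_univ_of_forall fun u => by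
      simp only [Set.mem_iUnion, Finset.mem_filter, Finset.mem_univ, true_and,
        Set.mem_vadd_set_iff_neg_vadd_mem, neg_zero, vadd_eq_add, zero_add]
      by_cases hu : u = 0
      · obtain ⟨c, hc⟩ := h.ev u0 a
        exact ⟨c, ⟨u0, hu0, hc⟩, hu ▸ zero_mem _⟩
      · obtain ⟨c, hc⟩ := h.ev u a
        exact ⟨c, ⟨u, hu, hc⟩, Module.End.mem_eigenspace_iff.2 hc⟩)
  obtain ⟨u, hu, e⟩ := (Finset.mem_filter.1 hc).2
  refine ⟨c, orderOf_eq h hu e, (Submodule.ne_bot_iff _).2 ⟨u, Module.End.mem_eigenspace_iff.2 e, hu⟩,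
    Module.finrank (ZMod p) (U ⧸ Module.End.eigenspace (σ c) a), fun e1 => ?_, ?_, ?_⟩
  · obtain ⟨v, hv, e2⟩ := h.w c u a hu e
    have := Module.finrank_zero_iff.1 e1
    have e3 := Module.End.mem_eigenspace_iff.1 ((Submodule.Quotient.mk_eq_zero _).1
      (Subsingleton.elim (Submodule.Quotient.mk (p := Module.End.eigenspace (σ c) a) v) 0))
    exact ha (mul_eq_one_iff_eq_inv.2 (Units.ext (smul_left_injective (ZMod p) hv (e3.symm.trans e2))))
  · rw [Submodule.card_eq_card_quotient_mul_card (Module.End.eigenspace (σ c) a), mul_comm,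
      Module.natCard_eq_pow_finrank (K := ZMod p) (V := U ⧸ _), Nat.card_zmod]
  · refine le_trans ?_ (h1.trans ?_)
    · have := Module.natCard_eq_pow_finrank (K := ZMod p) (V := U ⧸ Module.End.eigenspace (σ c) a)
      rw [Nat.card_zmod] at this
      exact this.ge
    · rw [Nat.card_eq_fintype_card, Fintype.card_subtype]
      exact Finset.card_le_card fun d hd => by
        obtain ⟨u, hu, e⟩ := (Finset.mem_filter.1 hd).2
        simpa using orderOf_eq h hu e

theorem ex_a : ∃ a : (ZMod 7)ˣ, a ^ 3 = 1 ∧ a ≠ 1 ∧ a * a ≠ 1 := ⟨⟨2, 4, rfl, rfl⟩, by decide⟩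

theorem no_mat : ∀ x y z w : ZMod 7, -(x + w) = x + w →
    (x * x + y * z) * (x * x + y * z) + (x * y + y * w) * (z * x + w * z) ≠ -1 := by decide +kernel

end OddP

open OddP

theorem wOdd : WOdd.{u} := by
  intro p _ E U _ _ _ _ _ σ h hp s hs h2 hd
  have := Fact.mk hs
  obtain ⟨a, ha⟩ := exists_prime_orderOf_dvd_card' (G := (ZMod p)ˣ) s (by
    rwa [Nat.card_eq_fintype_card, ZMod.card_units])
  obtain ⟨c, hc, -, k, hk, -, h1⟩ := cover h (a := a) fun e => h2
    ((Nat.prime_dvd_prime_iff_eq hs Nat.prime_two).1 (ha ▸ orderOf_dvd_of_pow_eq_one (sq a ▸ e)))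
  have h3 := (Nat.le_self_pow hk p).trans h1
  have h4 := Nat.le_of_dvd (by omega) hd
  by_cases h5 : s = 3
  · have := count_three h (by omega)
    rw [ha, h5] at h3
    omega
  · have := count_le h (c := c) fun d e => comm_of_five h hs h2 h5 (hc.trans ha) (e.trans (hc.trans ha))
    rw [hc] at this
    omega

theorem wSeven : WSeven.{u} := by
  intro _ E U _ _ _ _ _ σ h tr
  have := h.nontriv
  have : Fact (Nat.Prime 3) := ⟨Nat.prime_three⟩
  have : Fact (Nat.Prime 2) := ⟨Nat.prime_two⟩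
  obtain ⟨a, a1, a2, a3⟩ := ex_a
  have ha : orderOf a = 3 := orderOf_eq_prime a1 a2
  obtain ⟨c, hc, h0, k, hk, h1, h2⟩ := cover h a3
  have h3 := count_three h (by norm_num)
  rw [← ha] at h3
  obtain rfl : k = 1 := by
    by_contra n
    have := Nat.pow_le_pow_right (show 0 < 7 by norm_num) (show 2 ≤ k by omega)
    omega
  obtain ⟨d, -, hd⟩ : ∃ d, orderOf d = orderOf c ∧ c * d ≠ d * c := by
    by_contra! n
    have := count_le h n
    rw [hc] at this
    omega
  set W := Module.End.eigenspace (σ c) a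
  have h4 := Nat.card_le_card_of_injective (fun x : W × W => (x.1 : U) + σ d x.2) fun x y e => by
    have e1 := Module.End.mem_eigenspace_iff.1 (sub_mem y.1.2 x.1.2)
    have e2 := Module.End.mem_eigenspace_iff.1 (sub_mem x.2.2 y.2.2)
    have e3 : σ d (x.2 - y.2) = y.1 - x.1 := by
      rw [map_sub, sub_eq_sub_iff_add_eq_add, add_comm]; exact e
    have e4 : (x.2 : U) - y.2 = 0 := by
      by_contra n
      refine hd (inv_mul_eq_one.1 (h.fpf _ _ n ?_)).symm
      rw [map_mul, map_mul σ c, Module.End.mul_apply, Module.End.mul_apply, e3, e1, ← e3, ← map_smul,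
        ← e2, ← Module.End.mul_apply (σ d), ← map_mul, ← Module.End.mul_apply, ← map_mul,
        inv_mul_cancel, map_one, Module.End.one_apply]
    rw [e4, map_zero] at e3
    exact Prod.ext (Subtype.ext (sub_eq_zero.1 e3.symm).symm) (Subtype.ext (sub_eq_zero.1 e4))
  rw [Nat.card_prod, h1, pow_one] at h4
  have h5 : 1 < Nat.card W := Finite.one_lt_card_iff_nontrivial.2 (Submodule.nontrivial_iff_ne_bot.2 h0)
  have h6 := Nat.le_of_mul_le_mul_right h4 (by omega)
  have h7 := Module.natCard_eq_pow_finrank (K := ZMod 7) (V := U)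
  rw [Nat.card_zmod] at h7
  have h8 : Module.finrank (ZMod 7) U = 2 := by
    generalize Module.finrank (ZMod 7) U = n at h7
    have : 7 ^ 1 < 7 ^ n := by omega
    have : 7 ^ n ≤ 7 ^ 2 := by omega
    have := (Nat.pow_lt_pow_iff_right (by norm_num)).1 ‹7 ^ 1 < 7 ^ n›
    have := (Nat.pow_le_pow_iff_right (by norm_num)).1 ‹7 ^ n ≤ 7 ^ 2›
    omega
  obtain ⟨u, hu⟩ := exists_ne (0 : U)
  have h9 : Nat.card E = 48 := by
    classical
    have := Fintype.ofFinite U
    rw [Nat.card_eq_of_bijective (fun e : E => (⟨σ e u, fun n => hu (by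
      rw [← Module.End.one_apply (R := ZMod 7) u, ← map_one σ, ← inv_mul_cancel e, map_mul,
        Module.End.mul_apply, n, map_zero])⟩ : {v : U // ¬ v = 0})) ⟨fun x y e => ?_, fun v => ?_⟩]
    · rw [Nat.card_eq_fintype_card, Fintype.card_subtype_compl, Fintype.card_subtype_eq,
        ← Nat.card_eq_fintype_card, h7, h8]
      norm_num
    · refine inv_mul_eq_one.1 (h.fpf _ u hu ?_)
      rw [map_mul, Module.End.mul_apply, ← show σ x u = σ y u from congrArg Subtype.val e,
        ← Module.End.mul_apply, ← map_mul, inv_mul_cancel, map_one, Module.End.one_apply]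
    · obtain ⟨e, he⟩ := tr u v hu v.2
      exact ⟨e, Subtype.ext he⟩
  obtain ⟨P, hP⟩ := Sylow.exists_subgroup_card_pow_prime (G := E) 2 (n := 4) (by rw [h9]; norm_num)
  obtain ⟨f, hf⟩ : ∃ f : E, orderOf f = 8 := by
    rcases (isFC h).isCyclic_or_quaternion (IsPGroup.of_card hP) with c | ⟨n, ⟨e⟩⟩
    · obtain ⟨g, hg⟩ := c.exists_ofOrder_eq_natCard
      refine ⟨(g ^ 2 : P), ?_⟩
      rw [orderOf_coe, orderOf_pow' _ two_ne_zero, hg, hP]
      norm_num
    · have := Nat.card_congr e.toEquiv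
      rw [hP, Nat.card_eq_fintype_card, QuaternionGroup.card] at this
      refine ⟨e.symm (.a 1), ?_⟩
      rw [orderOf_coe, MulEquiv.orderOf_eq, QuaternionGroup.orderOf_a_one]
      omega
  have e1 : σ (f ^ 4) = -1 := (fpf h).eq_neg_one (pow_ne_one_of_lt_orderOf (by norm_num) (by omega))
    (by rw [← pow_mul]; exact orderOf_dvd_iff_pow_eq_one.1 hf.dvd)
  have e2 := h.tr f 5 (by rw [hf]; norm_num)
  let b := Module.finBasisOfFinrankEq (ZMod 7) U h8
  rw [pow_succ, map_mul, e1, neg_one_mul, map_neg, LinearMap.trace_eq_matrix_trace _ b,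
    Matrix.trace_fin_two] at e2
  have e3 := congrArg (fun T => LinearMap.toMatrix b b T 0 0) e1
  simp only [show 4 = 2 * 2 from rfl, pow_mul, sq, map_mul, LinearMap.toMatrix_mul, map_neg,
    LinearMap.toMatrix_one, Matrix.mul_apply, Fin.sum_univ_two, Matrix.neg_apply,
    Matrix.one_apply_eq] at e3
  exact no_mat _ _ _ _ e2 e3

end Cfsg.Lib.DCS
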