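import Cfsg.Agent.DCS.Plan2
import Cfsg.Agent.DCS.GL0
import Cfsg.Agent.DCS.Odd

/-! Tower DCS: the linear lemma for primes `p ≥ 7`. -/

set_option autoImplicit false

namespace Cfsg.Lib.DCS

open Subgroup Cfsg.Lib.Perm

universe u

namespace Lin7

theorem pow80 (a : ℕ) : 3 ^ a % 80 = 3 ^ (a % 4) := by
  conv_lhs => rw [← Nat.div_add_mod a 4, pow_add, pow_mul, Nat.mul_mod, Nat.pow_mod]
  have : a % 4 < 4 := Nat.mod_lt _ (by norm_num)
  generalize a % 4 = r at *
  interval_cases r <;> simp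

theorem c1 {a b : ℕ} (h : 2 ^ b + 1 = 3 ^ a) : b = 1 ∨ b = 3 := by
  have h1 := pow80 a
  have h2 : a % 4 < 4 := Nat.mod_lt _ (by norm_num)
  by_cases hb : 4 ≤ b
  · have h3 : 16 ∣ 2 ^ b := pow_dvd_pow 2 hb
    have h4 : ¬ 5 ∣ 2 ^ b := fun h => absurd (Nat.prime_five.dvd_of_dvd_pow h) (by norm_num)
    generalize a % 4 = r at *
    interval_cases r <;> omega
  · generalize a % 4 = r at *
    interval_cases b <;> interval_cases r <;> omega

theorem c2 {a b : ℕ} (h : 3 ^ a + 1 = 2 ^ b) : b ≤ 2 := by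
  have h1 := pow80 a
  have h2 : a % 4 < 4 := Nat.mod_lt _ (by norm_num)
  by_contra hb
  have h3 : 8 ∣ 2 ^ b := pow_dvd_pow 2 (not_le.1 hb)
  generalize a % 4 = r at *
  interval_cases r <;> omega

theorem pw {n r s : ℕ} (h0 : n ≠ 0) (hrs : r = 2 ∧ s = 3 ∨ r = 3 ∧ s = 2)
    (h : ∀ q : ℕ, q.Prime → q ∣ n → q ≤ 3) (hs : ¬ s ∣ n) : ∃ k, n = r ^ k :=
  ⟨_, Nat.eq_prime_pow_of_unique_prime_dvd h0 fun {d} hd hn => by
    have h1 := h d hd hn
    have h2 := hd.two_le
    have h3 : d ≠ s := fun e => hs (e ▸ hn)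
    omega⟩

/-- consecutive numbers with prime divisors at most 3 -/
theorem consec {a : ℕ} (ha : 3 ≤ a) (h : ∀ q : ℕ, q.Prime → q ∣ a * (a + 1) → q ≤ 3) :
    a = 3 ∨ a = 8 := by
  have h1 : ∀ q : ℕ, q.Prime → q ∣ a → q ≤ 3 := fun q hq hd => h q hq (hd.mul_right _)
  have h2 : ∀ q : ℕ, q.Prime → q ∣ a + 1 → q ≤ 3 := fun q hq hd => h q hq (hd.mul_left _)
  by_cases he : 2 ∣ a
  · obtain ⟨y, hy⟩ := pw (by omega) (Or.inr ⟨rfl, rfl⟩) h2 (by omega)
    have h3 : 3 ∣ a + 1 := hy ▸ dvd_pow_self 3 (by rintro rfl; omega)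
    obtain ⟨x, hx⟩ := pw (by omega) (Or.inl ⟨rfl, rfl⟩) h1 (by omega)
    rcases c1 (hx ▸ hy) with rfl | rfl <;> omega
  · obtain ⟨y, hy⟩ := pw (by omega) (Or.inr ⟨rfl, rfl⟩) h1 he
    have h3 : 3 ∣ a := hy ▸ dvd_pow_self 3 (by rintro rfl; omega)
    obtain ⟨x, hx⟩ := pw (by omega) (Or.inl ⟨rfl, rfl⟩) h2 (by omega)
    have := Nat.pow_le_pow_right (show 0 < 2 by norm_num) (c2 (hy ▸ hx))
    omega

theorem num {p m : ℕ} (hp : p.Prime) (h7 : 7 ≤ p) (hm : m ≠ 0)
    (h : ∀ q : ℕ, q.Prime → q ∣ p ^ (m + m) - 1 → q ≤ 3) : m = 1 ∧ (p = 7 ∨ p = 17) := by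
  obtain ⟨a, ha⟩ := (hp.odd_of_ne_two (by omega)).pow (n := m)
  have h1 := Nat.le_self_pow hm p
  have h2 : p ^ (m + m) - 1 = 4 * (a * (a + 1)) := by
    rw [pow_add, ha, Nat.sub_eq_iff_eq_add (by nlinarith)]
    ring
  rcases consec (a := a) (by omega) fun q hq hd => h q hq (h2 ▸ hd.mul_left _) with rfl | rfl
  · have := (show Nat.Prime 7 by norm_num).pow_eq_iff.1 ha
    exact ⟨this.2, Or.inl this.1⟩
  · have := (show Nat.Prime 17 by norm_num).pow_eq_iff.1 ha
    exact ⟨this.2, Or.inr this.1⟩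

/-- the trace of an isometry of a symplectic plane with an eigenvector -/
theorem tr_plane {K U : Type*} [Field K] [AddCommGroup U] [Module K U] (h2 : Module.finrank K U = 2)
    (B : U →ₗ[K] U →ₗ[K] K) (hl : ∀ v, (∀ w, B v w = 0) → v = 0) (ha : ∀ v, B v v = 0)
    {g : Module.End K U} (hg : ∀ v w, B (g v) (g w) = B v w) {u : U} (hu : u ≠ 0) {a : K}
    (e : g u = a • u) : a * LinearMap.trace K U g = a * a + 1 := by
  classical
  obtain ⟨w, hw⟩ : ∃ w, B u w ≠ 0 := by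
    by_contra! n
    exact hu (hl u n)
  have li : LinearIndependent K ![u, w] := LinearIndependent.pair_iff.2 fun s t q => by
    have q1 := congrArg (B u) q
    rw [map_add, map_smul, map_smul, ha, map_zero, smul_zero, zero_add, smul_eq_mul] at q1
    have ht := (mul_eq_zero.1 q1).resolve_right hw
    rw [ht, zero_smul, add_zero] at q
    exact ⟨(smul_eq_zero.1 q).resolve_right hu, ht⟩
  let b := basisOfLinearIndependentOfCardEqFinrank li (by rw [h2, Fintype.card_fin])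
  have b0 : b 0 = u := by simp [b]
  have b1 : b 1 = w := by simp [b]
  have e1 := b.sum_repr (g w)
  rw [Fin.sum_univ_two, b0, b1] at e1
  have e2 := hg u w
  rw [e, ← e1] at e2
  simp only [map_add, map_smul, LinearMap.smul_apply, ha, smul_eq_mul] at e2
  have e3 : a * b.repr (g w) 1 = 1 := mul_right_cancel₀ hw (by linear_combination e2)
  rw [LinearMap.trace_eq_matrix_trace K b, Matrix.trace_fin_two, LinearMap.toMatrix_apply,
    LinearMap.toMatrix_apply, b0, b1, e, map_smul, ← b0, b.repr_self]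
  simp only [Finsupp.smul_apply, Finsupp.single_eq_same, smul_eq_mul, mul_one]
  linear_combination e3

/-- the fixed-point-free section with its form -/
theorem sect {p : ℕ} [Fact p.Prime] {H V : Type u} [Group H] [Finite H] [AddCommGroup V]
    [Module (ZMod p) V] [Finite V] [Nontrivial V] (ρ : H →* Module.End (ZMod p) V)
    (B : V →ₗ[ZMod p] V →ₗ[ZMod p] ZMod p) (cop : ¬ p ∣ Nat.card H) (hr : Rat H) (hB : IsForm ρ B)
    (ha : ∀ v, B v v = 0) (hD : DCV ρ) :
    ∃ (E U : Type u) (_ : Group E) (_ : Finite E) (_ : AddCommGroup U) (_ : Module (ZMod p) U)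
      (_ : Finite U) (_ : Nontrivial U) (σ : E →* Module.End (ZMod p) U)
      (C : U →ₗ[ZMod p] U →ₗ[ZMod p] ZMod p), Nat.card E ∣ Nat.card H ∧
      (∀ (e : E) (u : U), u ≠ 0 → σ e u = u → e = 1) ∧
      (∀ u u' : U, u ≠ 0 → u' ≠ 0 → ∃ e : E, σ e u = u') ∧
      (∀ (e : E) (k : ℕ), k.Coprime (Nat.card H) →
        LinearMap.trace (ZMod p) U (σ (e ^ k)) = LinearMap.trace (ZMod p) U (σ e)) ∧
      (∀ e v w, C (σ e v) (σ e w) = C v w) ∧ (∀ v, (∀ w, C v w = 0) → v = 0) ∧ ∀ v, C v v = 0 := by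
  choose St hSt using GL0.exists_stab ρ
  have : Nonempty {v : V // v ≠ 0} := ⟨⟨_, (exists_ne 0).choose_spec⟩⟩
  obtain ⟨⟨v₀, h0⟩, hm⟩ := Finite.exists_max fun v : {v : V // v ≠ 0} => Nat.card (St v)
  generalize hJ : St v₀ = J at hm
  let U : Submodule (ZMod p) V := ⟨⟨⟨{v | ∀ j ∈ J, ρ j v = v}, fun ha hb j hj => by
    rw [map_add, ha j hj, hb j hj]⟩, fun j _ => map_zero _⟩, fun c v hv j hj => by rw [map_smul, hv j hj]⟩
  have hU : ∀ v, v ∈ U ↔ ∀ j ∈ J, ρ j v = v := fun _ => Iff.rfl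
  have s1 : ∀ u : U, u ≠ 0 → St u = J := fun u hu => (eq_of_le_of_card_ge
    (fun j hj => (hSt _ j).2 (u.2 j hj)) (hm ⟨u, fun e => hu (Subtype.ext e)⟩)).symm
  have s2 : ∀ u u' : U, u ≠ 0 → u' ≠ 0 → ∀ k, ρ k u = u' → k ∈ normalizer (J : Set H) := fun u u' a b k e =>
    mem_normalizer_fintype fun j hj => s1 u' b ▸ (hSt _ _).2 (by
      rw [map_mul, map_mul, Module.End.mul_apply, Module.End.mul_apply, ← e, GL0.inv_apply, u.2 j hj])
  have s3 : ∀ n : normalizer (J : Set H), ∀ v ∈ U, ρ n v ∈ U := fun n v hv j hj => by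
    have := hv _ ((mem_normalizer_iff''.1 n.2 j).1 hj)
    rw [map_mul, map_mul, Module.End.mul_apply, Module.End.mul_apply] at this
    have e := GL0.inv_apply ρ (n : H)⁻¹ (ρ j (ρ n v))
    rw [inv_inv, this] at e
    exact e.symm
  let σ₀ : normalizer (J : Set H) →* Module.End (ZMod p) U :=
    { toFun := fun n => (ρ n).restrict (s3 n)
      map_one' := by ext; simp
      map_mul' := fun a b => by ext; simp }
  let σ := QuotientGroup.lift (J.subgroupOf (normalizer (J : Set H))) σ₀ fun n hn =>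
    LinearMap.ext fun u => Subtype.ext (u.2 n hn)
  have c0 : (Nat.card J : ZMod p) ≠ 0 := fun e =>
    cop (((ZMod.natCast_eq_zero_iff _ p).1 e).trans (card_subgroup_dvd_card J))
  refine ⟨_, U, inferInstance, inferInstance, inferInstance, inferInstance, inferInstance,
    ⟨⟨⟨v₀, fun j hj => (hSt _ j).1 (hJ ▸ hj)⟩, 0, fun e => h0 (congrArg Subtype.val e)⟩⟩, σ,
    B.compl₁₂ U.subtype U.subtype, (card_quotient_dvd_card _).trans (card_subgroup_dvd_card _),
    fun e u hu q => ?_, fun u u' a b => ?_, fun e m m1 => ?_, fun e v w => ?_,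
    fun v hv => Subtype.ext (hB.fix_left J c0 v.2 fun w hw => hv ⟨w, hw⟩), fun v => ha v⟩
  · obtain ⟨n, rfl⟩ := QuotientGroup.mk_surjective e
    exact (QuotientGroup.eq_one_iff n).2 (mem_subgroupOf.2 ((s1 u hu).le ((hSt _ _).2 (congrArg Subtype.val q))))
  · have c : ∀ u : U, u ≠ 0 → Nat.card {h : H // ρ h u = u} = Nat.card J := fun u hu =>
      Nat.card_congr (Equiv.subtypeEquivRight fun g => by rw [← hSt, s1 u hu])
    obtain ⟨k, e⟩ := hD u u' ((c u a).trans (c u' b).symm)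
    exact ⟨QuotientGroup.mk ⟨k, s2 u u' a b k e⟩, Subtype.ext e⟩
  · obtain ⟨n, rfl⟩ := QuotientGroup.mk_surjective e
    rw [← QuotientGroup.mk_pow]
    have := Fintype.ofFinite J
    have c1 : ∀ j : J, ((n : H) ^ m)⁻¹ * (n * j) ^ m ∈ J := fun j => by
      have : (QuotientGroup.mk n : _ ⧸ J.subgroupOf (normalizer (J : Set H))) =
          QuotientGroup.mk (n * ⟨j, le_normalizer j.2⟩) := QuotientGroup.eq.2 (by simp [mem_subgroupOf])
      exact mem_subgroupOf.1 (QuotientGroup.eq.1 (show (QuotientGroup.mk (n ^ m) :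
        _ ⧸ J.subgroupOf (normalizer (J : Set H))) = QuotientGroup.mk ((n * ⟨j, le_normalizer j.2⟩) ^ m) by
          rw [QuotientGroup.mk_pow, QuotientGroup.mk_pow, this]))
    refine mul_left_cancel₀ c0 (((T1.sum_trace ρ J hU _ (s3 (n ^ m))).symm.trans (Eq.symm ?_)).trans
      (T1.sum_trace ρ J hU _ (s3 n)))
    have c2 : Function.Injective fun j : J => (⟨_, c1 j⟩ : J) := fun j j' e =>
      Subtype.ext (mul_left_cancel (a := (n : H)) ((powCoprime m1.symm).injective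
        (mul_left_cancel (congrArg Subtype.val e))))
    refine Fintype.sum_bijective _ (Finite.injective_iff_bijective.1 c2) _ _ fun j => ?_
    rw [← map_mul, ← map_mul, coe_pow, mul_inv_cancel_left]
    exact T1.trace_conj ρ (hr _ m (m1.coprime_dvd_right (_root_.orderOf_dvd_natCard _)))
  · obtain ⟨n, rfl⟩ := QuotientGroup.mk_surjective e
    exact hB.inv n v w

theorem z17 : ∀ t : ZMod 17, 3 * t = 3 * 3 + 1 → 3 ^ 5 * t ≠ 3 ^ 5 * 3 ^ 5 + 1 := by decide +kernel

theorem z17' : (3 : ZMod 17) ≠ 0 := by decide +kernel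

end Lin7

open Lin7

theorem wLin7 : WLin7.{u} := by
  intro p hp H V _ _ _ _ _ _ ρ B h7 h3 hr hB ha hD
  obtain ⟨E, U, _, _, _, _, _, _, σ, C, hd, fpf, tr, t5, ci, cl, ca⟩ :=
    sect ρ B (fun e => by have := h3 p hp.out e; omega) hr hB ha hD
  have h5 : Nat.Coprime 5 (Nat.card H) := (Nat.Prime.coprime_iff_not_dvd Nat.prime_five).2 fun e => by
    have := h3 5 Nat.prime_five e
    omega
  obtain ⟨m, hm⟩ := even_finrank (fun e => by
    have := Nat.le_of_dvd two_pos ((ZMod.natCast_eq_zero_iff 2 p).1 (by exact_mod_cast e))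
    omega) C cl ca
  have c7 := Module.natCard_eq_pow_finrank (K := ZMod p) (V := U)
  rw [Nat.card_zmod, hm] at c7
  obtain ⟨u, hu⟩ := exists_ne (0 : U)
  have h9 : Nat.card E = p ^ (m + m) - 1 := by
    classical
    have := Fintype.ofFinite U
    rw [Nat.card_eq_of_bijective (fun e : E => (⟨σ e u, fun n => hu (by
      rw [← GL0.inv_apply σ e u, n, map_zero])⟩ : {v : U // ¬ v = 0})) ⟨fun x y e => ?_, fun v => ?_⟩]
    · rw [Nat.card_eq_fintype_card, Fintype.card_subtype_compl, Fintype.card_subtype_eq,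
        ← Nat.card_eq_fintype_card, c7]
    · refine inv_mul_eq_one.1 (fpf _ u hu ?_)
      rw [map_mul, Module.End.mul_apply, ← show σ x u = σ y u from congrArg Subtype.val e,
        GL0.inv_apply]
    · obtain ⟨e, he⟩ := tr u v hu v.2
      exact ⟨e, Subtype.ext he⟩
  obtain ⟨rfl, rfl | rfl⟩ := num hp.out h7 (m := m) (by
    rintro rfl
    exact absurd hm Module.finrank_pos.ne') fun q hq e => h3 q hq ((h9 ▸ e).trans hd)
  · have : Fact (Nat.Prime 2) := ⟨Nat.prime_two⟩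
    have hF : FPF σ := FPF.of_apply fpf
    obtain ⟨P, hP⟩ := Sylow.exists_subgroup_card_pow_prime (G := E) 2 (n := 4) (by rw [h9]; norm_num)
    obtain ⟨f, hf⟩ : ∃ f : E, orderOf f = 8 := by
      rcases (IsFC.of_fpf hF).isCyclic_or_quaternion (IsPGroup.of_card hP) with c | ⟨n, ⟨e⟩⟩
      · obtain ⟨g, hg⟩ := c.exists_ofOrder_eq_natCard
        refine ⟨(g ^ 2 : P), ?_⟩
        rw [orderOf_coe, orderOf_pow' _ two_ne_zero, hg, hP]
        norm_num
      · have := Nat.card_congr e.toEquiv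
        rw [hP, Nat.card_eq_fintype_card, QuaternionGroup.card] at this
        refine ⟨e.symm (.a 1), ?_⟩
        rw [orderOf_coe, MulEquiv.orderOf_eq, QuaternionGroup.orderOf_a_one]
        omega
    have e1 : σ (f ^ 4) = -1 := hF.eq_neg_one (pow_ne_one_of_lt_orderOf (by norm_num) (by omega))
      (by rw [← pow_mul]; exact orderOf_dvd_iff_pow_eq_one.1 hf.dvd)
    have e2 := t5 f 5 h5
    let b := Module.finBasisOfFinrankEq (ZMod 7) U (n := 2) hm
    rw [pow_succ, map_mul, e1, neg_one_mul, map_neg, LinearMap.trace_eq_matrix_trace _ b,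
      Matrix.trace_fin_two] at e2
    have e3 := congrArg (fun T => LinearMap.toMatrix b b T 0 0) e1
    simp only [show 4 = 2 * 2 from rfl, pow_mul, sq, map_mul, LinearMap.toMatrix_mul, map_neg,
      LinearMap.toMatrix_one, Matrix.mul_apply, Fin.sum_univ_two, Matrix.neg_apply,
      Matrix.one_apply_eq] at e3
    exact OddP.no_mat _ _ _ _ e2 e3
  · obtain ⟨g, hg⟩ := tr u ((3 : ZMod 17) • u) hu (smul_ne_zero z17' hu)
    have k : ∀ n : ℕ, σ (g ^ n) u = (3 : ZMod 17) ^ n • u := fun n => by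
      induction n with
      | zero => simp
      | succ n ih => rw [pow_succ, map_mul, Module.End.mul_apply, hg, map_smul, ih, smul_smul, pow_succ']
    have e1 := tr_plane hm C cl ca (ci (g ^ 5)) hu (k 5)
    rw [t5 g 5 h5] at e1
    exact z17 _ (tr_plane hm C cl ca (ci g) hu hg) e1

end Cfsg.Lib.DCS
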