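import Cfsg.Agent.DCS.Defs

/-! Tower DCS: a fixed-point-free element of order 3 and a subgroup on which it is regular. -/

set_option autoImplicit false

namespace Cfsg.Lib.DCS

open Subgroup

theorem lemmaQ {p : ℕ} [Fact p.Prime] {H V : Type*} [Group H] [Finite H] [AddCommGroup V]
    [Module (ZMod p) V] (ρ : H →* Module.End (ZMod p) V) (B : Subgroup H) {g : H}
    (hg : orderOf g = 3) (hn : g ∈ normalizer (B : Set H)) (hB : ¬ p ∣ Nat.card B)
    (hC : ∀ b ∈ B, g * b = b * g → b = 1) (W : Submodule (ZMod p) V)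
    (hWB : ∀ b ∈ B, ∀ w ∈ W, ρ b w ∈ W) (hWg : ∀ w ∈ W, ρ g w ∈ W)
    (hf : ∀ w ∈ W, ρ g w = w → w = 0) : ∀ b ∈ B, ∀ w ∈ W, ρ b w = w := by
  classical
  have := Fintype.ofFinite B
  have g3 : g * g * g = 1 := by rw [← pow_three', ← hg, pow_orderOf_eq_one]
  have hm : ∀ a b : H, ∀ v, ρ (a * b) v = ρ a (ρ b v) := fun a b v => by rw [map_mul]; rfl
  have h0 : ∀ w ∈ W, w + ρ g w + ρ (g * g) w = 0 := by
    intro w hw
    refine hf _ (W.add_mem (W.add_mem hw (hWg _ hw)) (by rw [hm]; exact hWg _ (hWg _ hw))) ?_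
    rw [map_add, map_add, ← hm, ← hm, ← mul_assoc, g3, map_one, Module.End.one_apply]; abel
  have h1 : ∀ c ∈ B, ∀ w ∈ W, w + ρ (c * g * c⁻¹) w + ρ (c * (g * g) * c⁻¹) w = 0 := by
    intro c hc w hw
    have := congrArg (ρ c) (h0 _ (hWB _ (B.inv_mem hc) w hw))
    rwa [map_add, map_add, map_zero, ← hm, ← hm, ← hm, ← hm, ← hm, mul_inv_cancel, map_one,
      Module.End.one_apply] at this
  have hN : ∀ t ∈ normalizer (B : Set H), ∀ b ∈ B, t * b * t⁻¹ ∈ B := fun t ht b hb =>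
    (mem_normalizer_iff.1 ht b).1 hb
  -- the sum over `B`
  have hσ : ∀ b ∈ B, ∀ v, ∑ c : B, ρ c (ρ b v) = ∑ c : B, ρ c v := by
    intro b hb v
    refine Fintype.sum_equiv (Equiv.mulRight (⟨b, hb⟩ : B)) _ _ fun c => ?_
    rw [← hm]; rfl
  have key : ∀ t ∈ normalizer (B : Set H), (∀ b ∈ B, t * b = b * t → b = 1) → ∀ b ∈ B, ∀ w,
      ∑ c : B, ρ (c * t * (c : H)⁻¹) (ρ b w - w) = 0 := by
    intro t ht hc b hb w
    let φ : B → B := fun c => ⟨c * (t * (c : H)⁻¹ * t⁻¹), B.mul_mem c.2 (hN t ht _ (B.inv_mem c.2))⟩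
    have hφ : Function.Bijective φ := by
      refine Finite.injective_iff_bijective.1 fun c d h => ?_
      have h' : (c : H) * (t * (c : H)⁻¹ * t⁻¹) = d * (t * (d : H)⁻¹ * t⁻¹) := congrArg Subtype.val h
      have := hc ((d : H)⁻¹ * c) (B.mul_mem (B.inv_mem d.2) c.2) (by
        calc t * ((d : H)⁻¹ * c) = (d : H)⁻¹ * (d * (t * (d : H)⁻¹ * t⁻¹)) * t * c := by group
          _ = _ := by rw [← h']; group)
      exact Subtype.ext (by rw [← mul_left_cancel_iff (a := (d : H)⁻¹), this, inv_mul_cancel])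
    have e1 : ∑ c : B, ρ (c * t * (c : H)⁻¹) (ρ b w - w) = ∑ c : B, ρ c (ρ t (ρ b w - w)) := by
      refine Fintype.sum_bijective φ hφ _ _ fun c => ?_
      rw [← hm]; congr 2; simp only [φ]; group
    rw [e1]
    have e2 : ρ t (ρ b w) = ρ (t * b * t⁻¹) (ρ t w) := by rw [← hm, ← hm]; congr 2; group
    simp only [map_sub, Finset.sum_sub_distrib, e2]
    rw [hσ _ (hN t ht b hb), sub_self]
  intro b hb w hw
  have hw0 : ρ b w - w ∈ W := W.sub_mem (hWB b hb w hw) hw
  have hs : ∑ c : B, (ρ b w - w + ρ (c * g * (c : H)⁻¹) (ρ b w - w) +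
      ρ (c * (g * g) * (c : H)⁻¹) (ρ b w - w)) = 0 := Finset.sum_eq_zero fun c _ => h1 c c.2 _ hw0
  rw [Finset.sum_add_distrib, Finset.sum_add_distrib, key g hn hC b hb,
    key (g * g) ((normalizer _).mul_mem hn hn) (fun c hc h => hC c hc (by
      have e : g * g * (g * g) = g := by rw [← mul_assoc, g3, one_mul]
      have := (Commute.mul_left (show Commute (g * g) c from h) (show Commute (g * g) c from h)).eq
      rwa [e] at this)) b hb, add_zero, add_zero, Finset.sum_const, Finset.card_univ,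
    ← Nat.cast_smul_eq_nsmul (ZMod p), smul_eq_zero] at hs
  rcases hs with h | h
  · rw [ZMod.natCast_eq_zero_iff, ← Nat.card_eq_fintype_card] at h
    exact absurd h hB
  · exact sub_eq_zero.1 h

end Cfsg.Lib.DCS
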