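import Cfsg.Agent.DCS.Q

/-! Tower DCS: no centralizer of order 6 over a good 5-module. -/

set_option autoImplicit false

namespace Cfsg.Lib.DCS

open Subgroup

universe u

namespace Six

section grp

variable {K : Type*} [Group K]

/-- elements of 2-power order -/
def T2 (x : K) : Prop := ∃ n : ℕ, x ^ 2 ^ n = 1

theorem T2.of_mem {Q : Subgroup K} (hQ : IsPGroup 2 Q) {x : K} (hx : x ∈ Q) : T2 x := by
  obtain ⟨n, hn⟩ := hQ ⟨x, hx⟩
  exact ⟨n, congrArg Subtype.val hn⟩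

theorem T2.eq_one {w : K} (h2 : T2 w) (h3 : w ^ 3 = 1) : w = 1 := by
  obtain ⟨n, hn⟩ := h2
  have h := Nat.dvd_gcd (orderOf_dvd_of_pow_eq_one hn) (orderOf_dvd_of_pow_eq_one h3)
  rw [(Nat.Coprime.pow_left n (by norm_num : Nat.Coprime 2 3)).gcd_eq_one, Nat.dvd_one] at h
  exact orderOf_eq_one_iff.1 h

theorem T2.of_sq {z : K} (h : z * z = 1) : T2 z := ⟨1, by rw [pow_one, pow_two, h]⟩

theorem cube {u : K} (hu : orderOf u = 3) : u ^ 3 = 1 := by rw [← hu, pow_orderOf_eq_one]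

theorem inv_three {u : K} (hu : orderOf u = 3) : u⁻¹ = u ^ 2 :=
  inv_eq_of_mul_eq_one_left (by rw [← pow_succ, cube hu])

variable [Finite K]

theorem rat_dvd (h : Rat K) (x : K) : orderOf x * Nat.totient (orderOf x) ∣ Nat.card K := by
  let φ := (zpowers x).normalizerMonoidHom
  have hs : Function.Surjective φ := by
    intro α
    obtain ⟨k, hk⟩ : ∃ k : ℕ, x ^ k = (α ⟨x, mem_zpowers x⟩ : K) := by
      have := (α ⟨x, mem_zpowers x⟩).2
      rwa [← mem_powers_iff_mem_zpowers] at this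
    have ho : orderOf (x ^ k) = orderOf x := by
      rw [hk, orderOf_coe, MulEquiv.orderOf_eq, orderOf_mk]
    have hc : k.Coprime (orderOf x) := by
      rw [orderOf_pow, Nat.div_eq_self] at ho
      rcases ho with ho | ho
      · exact absurd ho (orderOf_pos x).ne'
      · exact Nat.Coprime.symm ho
    obtain ⟨g, hg⟩ := isConj_iff.1 (h x k hc)
    have hgN : g ∈ normalizer ((zpowers x : Subgroup K) : Set K) := by
      refine mem_normalizer_fintype ?_
      rintro _ ⟨n, rfl⟩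
      show g * x ^ n * g⁻¹ ∈ zpowers x
      rw [← conj_zpow, hg]
      exact zpow_mem (pow_mem (mem_zpowers x) k) n
    refine ⟨⟨g, hgN⟩, MulEquiv.ext ?_⟩
    rintro ⟨_, n, rfl⟩
    have e : (⟨(fun n : ℤ => x ^ n) n, n, rfl⟩ : zpowers x) = ⟨x, mem_zpowers x⟩ ^ n := rfl
    rw [e, map_zpow, map_zpow]
    congr 1
    exact Subtype.ext (hg.trans hk)
  have h1 := φ.ker.card_mul_index
  rw [index_ker, MonoidHom.range_eq_top.2 hs, card_top, IsCyclic.card_mulAut, Nat.card_zpowers]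
    at h1
  refine Dvd.dvd.trans ?_ (card_subgroup_dvd_card (normalizer ((zpowers x : Subgroup K) : Set K)))
  rw [← h1]
  refine Nat.mul_dvd_mul_right ?_ _
  have hx : (⟨x, le_normalizer (mem_zpowers x)⟩ :
      normalizer ((zpowers x : Subgroup K) : Set K)) ∈ φ.ker := by
    rw [normalizerMonoidHom_ker, mem_subgroupOf, mem_centralizer_iff]
    rintro _ ⟨n, rfl⟩
    exact (Commute.zpow_left (Commute.refl x) n).eq
  have := orderOf_dvd_natCard (⟨_, hx⟩ : φ.ker)
  rwa [orderOf_mk, orderOf_mk] at this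

theorem sq_dvd_cz {p : ℕ} [hp : Fact p.Prime] {g : K} (hg : orderOf g = p)
    (h : p ^ 2 ∣ Nat.card K) : p ^ 2 ∣ cz g := by
  obtain ⟨P, hP, hle⟩ := Sylow.exists_subgroup_card_pow_succ (n := 1) h (H := zpowers g)
    (by rw [Nat.card_zpowers, hg, pow_one])
  have hc : P ≤ centralizer {g} := by
    intro y hy
    letI := IsPGroup.commGroupOfCardEqPrimeSq hP
    exact mem_cent.2 (congrArg Subtype.val
      (mul_comm (⟨g, hle (mem_zpowers g)⟩ : P) ⟨y, hy⟩))
  rw [← hP]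
  exact card_dvd_of_le hc

theorem uniq {u c d : K} (hu : orderOf u = 3) (h6 : cz u ≤ 6) (hc : u * c = c * u)
    (hd : u * d = d * u) (c2 : T2 c) (d2 : T2 d) (c1 : c ≠ 1) (d1 : d ≠ 1) : c = d := by
  have hZ : ∀ w ∈ zpowers u, T2 w → w = 1 := by
    rintro _ ⟨n, rfl⟩ h2
    refine h2.eq_one ?_
    show (u ^ n) ^ 3 = 1
    rw [← zpow_natCast, ← zpow_mul, mul_comm, zpow_mul, zpow_natCast, cube hu, one_zpow]
  have hle : zpowers u ≤ centralizer {u} := by
    rw [zpowers_le]; exact mem_cent.2 rfl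
  have h1 := ((zpowers u).subgroupOf (centralizer {u})).card_mul_index
  rw [Nat.card_congr (subgroupOfEquivOfLe hle).toEquiv, Nat.card_zpowers, hu] at h1
  have hn : ∀ w, T2 w → w ≠ 1 → ∀ hw : u * w = w * u, (⟨w, mem_cent.2 hw⟩ : centralizer {u}) ∉
      (zpowers u).subgroupOf (centralizer {u}) := fun w h2 w1 _ h => w1 (hZ w h h2)
  have h2 : ((zpowers u).subgroupOf (centralizer {u})).index = 2 := by
    have h0 : ((zpowers u).subgroupOf (centralizer {u})).index ≠ 0 := index_ne_zero_of_finite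
    have h3 : ((zpowers u).subgroupOf (centralizer {u})).index ≠ 1 := fun h =>
      hn c c2 c1 hc (by rw [index_eq_one.1 h]; exact mem_top _)
    have h4 : Nat.card (centralizer ({u} : Set K)) ≤ 6 := h6
    omega
  have h3 : c⁻¹ * d ∈ zpowers u := by
    have := (mul_mem_iff_of_index_two h2 (a := (⟨c, mem_cent.2 hc⟩ : centralizer {u})⁻¹)
      (b := ⟨d, mem_cent.2 hd⟩)).2 (by
        rw [inv_mem_iff]; exact iff_of_false (hn c c2 c1 hc) (hn d d2 d1 hd))
    exact this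
  have h4 : Commute c (c⁻¹ * d) := by
    obtain ⟨n, hn⟩ := h3
    rw [← hn]
    exact Commute.zpow_right (Commute.symm hc) n
  refine inv_mul_eq_one.1 (hZ _ h3 ?_)
  obtain ⟨m, hm⟩ := c2
  obtain ⟨n, hn⟩ := d2
  refine ⟨m + n, ?_⟩
  have e := h4.mul_pow (2 ^ (m + n))
  rw [mul_inv_cancel_left, pow_add, pow_mul c, hm, one_pow, one_mul, mul_comm (2 ^ m), pow_mul d,
    hn, one_pow] at e
  rw [pow_add, mul_comm (2 ^ m), e]

theorem not_nine {g : K} (hg : orderOf g = 3) (h6 : cz g ≤ 6) : ¬ 3 ^ 2 ∣ Nat.card K := fun h => by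
  haveI : Fact (Nat.Prime 3) := ⟨by norm_num⟩
  have := Nat.le_of_dvd (cz_pos g) (sq_dvd_cz hg h)
  omega

theorem conj_three {g u : K} (hg : orderOf g = 3) (h6 : cz g ≤ 6) (hu : orderOf u = 3) :
    ∃ h : K, u = h * g * h⁻¹ ∨ u = h * g⁻¹ * h⁻¹ := by
  classical
  haveI : Fact (Nat.Prime 3) := ⟨by norm_num⟩
  have hp : ∀ w : K, orderOf w = 3 → IsPGroup 3 (zpowers w) := fun w hw =>
    IsPGroup.of_card (n := 1) (by rw [Nat.card_zpowers, hw, pow_one])
  obtain ⟨P, hP⟩ := (hp g hg).exists_le_sylow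
  obtain ⟨P', hP'⟩ := (hp u hu).exists_le_sylow
  obtain ⟨h, rfl⟩ := MulAction.exists_smul_eq K P P'
  have hc : Nat.card P ≤ 3 := by
    obtain ⟨n, hn⟩ := P.2.exists_card_eq
    have h9 := not_nine hg h6
    rcases Nat.lt_or_ge n 2 with h2 | h2
    · rw [show Nat.card P = 3 ^ n from hn]
      interval_cases n <;> norm_num
    · exact absurd ((pow_dvd_pow 3 h2).trans (hn ▸ card_subgroup_dvd_card _)) h9
  have hPe : zpowers g = P := eq_of_le_of_card_ge hP (by rw [Nat.card_zpowers, hg]; exact hc)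
  have hm : h⁻¹ * u * h ∈ zpowers g := by
    have := hP' (mem_zpowers u)
    rw [Sylow.coe_subgroup_smul, mem_pointwise_smul_iff_inv_smul_mem] at this
    rw [hPe]
    simpa using this
  rw [mem_zpowers_iff_mem_range_orderOf, hg] at hm
  obtain ⟨i, hi, e⟩ := Finset.mem_image.1 hm
  have e' : u = h * g ^ i * h⁻¹ := by rw [e]; group
  refine ⟨h, ?_⟩
  rw [Finset.mem_range] at hi
  interval_cases i
  · rw [e'] at hu; simp at hu
  · left; rw [e', pow_one]
  · right; rw [e', inv_three hg]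

theorem cz_three {g u : K} (hg : orderOf g = 3) (h6 : cz g ≤ 6) (hu : orderOf u = 3) :
    cz u ≤ 6 := by
  have hi : cz g⁻¹ = cz g := by
    rw [inv_three hg]
    exact cz_pow g (by rw [hg]; norm_num)
  obtain ⟨h, rfl | rfl⟩ := conj_three hg h6 hu
  · rwa [cz_conj]
  · rwa [cz_conj, hi]

theorem exists_Q (hK : PrLe 3 K) {g : K} (hg : orderOf g = 3) (h6 : cz g ≤ 6) :
    ∃ Q : Subgroup K, Q.Normal ∧ IsPGroup 2 Q ∧ Q.index ∣ 6 := by
  obtain ⟨S⟩ : Nonempty (Sylow 2 K) := inferInstance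
  refine ⟨(S : Subgroup K).normalCore, inferInstance, S.2.to_le (normalCore_le _), ?_⟩
  have h : (S : Subgroup K).normalCore.index ∣ (S : Subgroup K).index.factorial := by
    rw [normalCore_eq_ker, index_ker, index_eq_card, ← Nat.card_perm]
    exact card_subgroup_dvd_card (MulAction.toPermHom K (K ⧸ (S : Subgroup K))).range
  have h3 := Nat.eq_prime_pow_of_unique_prime_dvd (n := (S : Subgroup K).index) (p := 3)
    index_ne_zero_of_finite (fun {d} hd hdv => by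
      have h1 := hK d hd (hdv.trans (index_dvd_card _))
      have h2 := hd.two_le
      have h4 : d ≠ 2 := fun e => S.not_dvd_index (e ▸ hdv)
      omega)
  generalize (S : Subgroup K).index.primeFactorsList.length = n at h3
  rcases Nat.lt_or_ge n 2 with h2 | h2
  · rw [h3] at h
    refine h.trans ?_
    interval_cases n <;> norm_num [Nat.factorial]
  · exact absurd ((pow_dvd_pow 3 h2).trans (h3 ▸ index_dvd_card _)) (not_nine hg h6)

omit [Finite K] in
theorem mem_Z {z w : K} (hz : z * z = 1) : w ∈ zpowers z ↔ w = 1 ∨ w = z := by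
  constructor
  · rintro ⟨n, rfl⟩
    have h2 : z ^ (2 : ℤ) = 1 := by rw [zpow_two, hz]
    rcases Int.even_or_odd' n with ⟨k, rfl | rfl⟩
    · left; show z ^ (2 * k) = 1; rw [zpow_mul, h2, one_zpow]
    · right; show z ^ (2 * k + 1) = z; rw [zpow_add_one, zpow_mul, h2, one_zpow, one_mul]
  · rintro (rfl | rfl)
    · exact one_mem _
    · exact mem_zpowers _

theorem card_le_eight {Q : Subgroup K} {z : K} (hz : z * z = 1) (z1 : z ≠ 1)
    (hzQ : ∀ x ∈ Q, Commute z x) (hs : ∀ x ∈ Q, x ∉ zpowers z → x * x = z) {x : K} (hx : x ∈ Q)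
    (hxZ : x ∉ zpowers z) : Nat.card Q ≤ 8 := by
  have x2 := hs x hx hxZ
  have hZX : zpowers z ≤ zpowers x := by
    rw [zpowers_le, ← x2]; exact mul_mem (mem_zpowers x) (mem_zpowers x)
  have anti : ∀ w ∈ Q, w ∉ zpowers x → w * x = x * w * z := by
    intro w hw hwX
    have w2 := hs w hw fun h => hwX (hZX h)
    have e := hs (x * w) (Q.mul_mem hx hw) fun h =>
      hwX ((mul_mem_cancel_left (mem_zpowers x)).1 (hZX h))
    calc w * x = x⁻¹ * (x * w * (x * w)) * w⁻¹ := by group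
      _ = x⁻¹ * (x * x) * w⁻¹ * (z * z) := by rw [e, x2, hz, mul_one]
      _ = x * w⁻¹ * (w * w) * z := by rw [w2]; group
      _ = _ := by group
  have h2 : (zpowers x).relIndex Q ∣ 2 := by
    rw [relIndex_dvd_two_iff]
    by_cases h : ∀ y ∈ Q, y ∈ zpowers x
    · exact ⟨1, Q.one_mem, fun b hb => Or.inr (h b hb)⟩
    · push Not at h
      obtain ⟨y, hy, hyX⟩ := h
      refine ⟨y, hy, fun b hb => ?_⟩
      by_contra hc
      rw [not_or] at hc
      have e1 := anti _ (Q.mul_mem hb hy) hc.1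
      have e2 : b * y * x = x * (b * y) := by
        calc b * y * x = b * (y * x) := by group
          _ = b * x * (y * z) := by rw [anti y hy hyX]; group
          _ = x * b * (z * y) * z := by rw [anti b hb hc.2]; group
          _ = x * (b * y) * (z * z) := by rw [(hzQ y hy).eq]; group
          _ = _ := by rw [hz, mul_one]
      rw [e2] at e1
      exact z1 (left_eq_mul.1 e1)
  have h1 := ((zpowers x).subgroupOf Q).card_mul_index
  rw [Nat.card_congr (subgroupOfEquivOfLe (zpowers_le.2 hx)).toEquiv, Nat.card_zpowers] at h1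
  have h4 : orderOf x ≤ 4 := orderOf_le_of_pow_eq_one (by norm_num) (by
    rw [show x ^ 4 = x * x * (x * x) by simp only [pow_succ, pow_zero, one_mul, mul_assoc], x2, hz])
  have h3 : ((zpowers x).subgroupOf Q).index ≤ 2 := Nat.le_of_dvd two_pos h2
  rw [← h1]
  exact (Nat.mul_le_mul h4 h3).trans (by norm_num)

end grp

section rep

variable {K : Type*} [Group K] [Finite K] {R : Type*} [Ring R] (ρ : K →* R)

theorem lemB {Q : Subgroup K} [hN : Q.Normal] (hQ : IsPGroup 2 Q) {z : K} (hz : z * z = 1)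
    (z1 : z ≠ 1) (hzQ : ∀ x ∈ Q, Commute z x) (h3 : ∀ u : K, orderOf u = 3 → ρ u + ρ u⁻¹ = -1)
    (h6 : ∀ u : K, orderOf u = 3 → cz u ≤ 6) {g : K} (hg : orderOf g = 3) (hzg : Commute z g)
    {x : K} (hx : x ∈ Q) : ∃ η, (η = 1 ∨ η = ρ z) ∧ ρ (g * x) + ρ (g * x)⁻¹ = -η := by
  haveI : Fact (Nat.Prime 3) := ⟨by norm_num⟩
  set a := g * x with ha
  have a3 : a ^ 3 ∈ Q := by
    rw [← QuotientGroup.eq_one_iff, QuotientGroup.mk_pow, ha, QuotientGroup.mk_mul,
      (QuotientGroup.eq_one_iff x).2 hx, mul_one, ← QuotientGroup.mk_pow, cube hg,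
      QuotientGroup.mk_one]
  obtain ⟨n, hn⟩ := T2.of_mem hQ a3
  obtain ⟨m, hm⟩ : ∃ m, 2 ^ n * 2 ^ n = 3 * m + 1 := by
    have : (2 ^ n * 2 ^ n) % 3 = 1 := by
      rw [← mul_pow, Nat.pow_mod]; simp
    exact ⟨2 ^ n * 2 ^ n / 3, by omega⟩
  set u := a ^ (3 * m + 1) with hu
  set c := ((a ^ 3) ^ m)⁻¹ with hc
  have cQ : c ∈ Q := Q.inv_mem (Q.pow_mem a3 m)
  have hac : a = u * c := by rw [hu, hc, ← pow_mul, pow_succ']; group
  have hcm : Commute u c := by
    rw [hu, hc, ← pow_mul]; exact (Commute.pow_pow_self a _ _).inv_right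
  have u3 : orderOf u = 3 := by
    refine orderOf_eq_prime ?_ fun h => ?_
    · rw [hu, ← pow_mul, mul_comm, pow_mul, ← hm, pow_mul, hn, one_pow]
    · have : g ∈ Q := by
        have e : g = c * x⁻¹ := by rw [h, one_mul] at hac; rw [← hac, ha]; group
        rw [e]; exact Q.mul_mem cQ (Q.inv_mem hx)
      have := (T2.of_mem hQ this).eq_one (cube hg)
      rw [this] at hg; simp at hg
  by_cases c1 : c = 1
  · exact ⟨1, Or.inl rfl, by rw [hac, c1, mul_one, h3 u u3]⟩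
  · have hzu : Commute u z := ((hzg.mul_right (hzQ x hx)).pow_right _).symm
    have := uniq u3 (h6 u u3) hcm.eq hzu.eq (T2.of_mem hQ cQ) (T2.of_sq hz) c1 z1
    refine ⟨ρ z, Or.inr rfl, ?_⟩
    rw [hac, this, mul_inv_rev, inv_eq_of_mul_eq_one_left hz, ← hzu.inv_left.eq, map_mul, map_mul,
      ← add_mul, h3 u u3, neg_one_mul]

theorem lemE {Q : Subgroup K} [hN : Q.Normal] (hQ : IsPGroup 2 Q) {z : K} (hz : z * z = 1)
    (z1 : z ≠ 1) (hzQ : ∀ x ∈ Q, Commute z x) (h3 : ∀ u : K, orderOf u = 3 → ρ u + ρ u⁻¹ = -1)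
    (h6 : ∀ u : K, orderOf u = 3 → cz u ≤ 6) {g : K} (hg : orderOf g = 3) (hzg : Commute z g)
    {x : K} (hx : x ∈ Q) :
    ρ x + ρ x⁻¹ = 1 + 1 ∨ ρ x + ρ x⁻¹ = ρ z + ρ z ∨ ρ x + ρ x⁻¹ = 1 + ρ z := by
  obtain ⟨η, hη, e1⟩ := lemB ρ hQ hz z1 hzQ h3 h6 hg hzg hx
  obtain ⟨θ, hθ, e3⟩ := lemB ρ hQ hz z1 hzQ h3 h6 (g := g⁻¹) (by rwa [orderOf_inv])
    hzg.inv_right (hN.conj_mem' x hx g)
  have e2 := h3 g hg
  have g3 : g⁻¹ * g⁻¹ = g := by
    rw [← mul_inv_rev, inv_eq_iff_mul_eq_one, ← pow_three', cube hg]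
  have p1 : g⁻¹ * (g⁻¹ * x * g) = (g * x) * g := by
    rw [← mul_assoc, ← mul_assoc, g3]
  have p2 : x = g⁻¹ * (g * x) := by group
  have p3 : x⁻¹ = (g * x)⁻¹ * g := by group
  have hc : η * ρ g = ρ g * η := by
    rcases hη with rfl | rfl
    · simp
    · rw [← map_mul, ← map_mul, hzg.eq]
  rw [p1, mul_inv_rev, map_mul ρ (g * x), map_mul ρ g⁻¹] at e3
  have key : ρ x + ρ x⁻¹ = η + θ := by
    rw [p3, map_mul]
    nth_rewrite 1 [p2]
    rw [map_mul]
    have f1 : ρ (g * x)⁻¹ = -η - ρ (g * x) := by rw [← e1]; abel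
    have f2 : ρ g⁻¹ = -1 - ρ g := by rw [← e2]; abel
    rw [f1, f2] at e3 ⊢
    have f3 : θ = -(ρ (g * x) * ρ g + (-1 - ρ g) * (-η - ρ (g * x))) := by rw [e3, neg_neg]
    rw [f3]
    have : (-η - ρ (g * x)) * ρ g = -(ρ g * η) - ρ (g * x) * ρ g := by rw [← hc]; noncomm_ring
    rw [this]
    noncomm_ring
  rw [key]
  rcases hη with rfl | rfl <;> rcases hθ with rfl | rfl
  · exact Or.inl rfl
  · exact Or.inr (Or.inr rfl)
  · exact Or.inr (Or.inr (add_comm _ _))
  · exact Or.inr (Or.inl rfl)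

end rep

theorem two_ne : (2 : ZMod 5) ≠ 0 := by decide

theorem three_ne : (3 : ZMod 5) ≠ 0 := by decide

theorem ord_two : orderOf (2 : ZMod 5) = 4 :=
  orderOf_eq_prime_pow (p := 2) (n := 1) (by decide) (by decide)

section mod

variable [Fact (Nat.Prime 5)] {K V : Type*} [Group K] [AddCommGroup V] [Module (ZMod 5) V]
  (ρ : K →* Module.End (ZMod 5) V)

theorem ap_mul (a b : K) (v : V) : ρ (a * b) v = ρ a (ρ b v) := by rw [map_mul]; rfl

theorem unip {x : K} (hx : T2 x) {w : V} (h : ρ x w + ρ x⁻¹ w = w + w) : ρ x w = w := by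
  obtain ⟨n, hn⟩ := hx
  have hd : ρ x (ρ x w - w) = ρ x w - w := by
    have := congrArg (ρ x) h
    rw [map_add, map_add, ← ap_mul ρ x x⁻¹, mul_inv_cancel, map_one, Module.End.one_apply] at this
    rw [map_sub, sub_eq_sub_iff_add_eq_add, this]
  have h1 : ∀ m : ℕ, ρ (x ^ m) w = w + (m : ZMod 5) • (ρ x w - w) := by
    intro m
    induction m with
    | zero => simp
    | succ m ih =>
      rw [pow_succ', ap_mul, ih, map_add, map_smul, hd, Nat.cast_succ, add_smul, one_smul]; abel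
  have h2 := h1 (2 ^ n)
  rw [hn, map_one, Module.End.one_apply, left_eq_add, smul_eq_zero] at h2
  rcases h2 with h2 | h2
  · rw [Nat.cast_pow] at h2
    exact absurd (pow_eq_zero_iff' .. |>.1 h2).1 two_ne
  · exact sub_eq_zero.1 h2

theorem unip' (hi : Function.Injective ρ) {x : K} (hx : T2 x) (h : ρ x + ρ x⁻¹ = 1 + 1) :
    x = 1 := by
  apply hi
  rw [map_one]
  ext w
  exact unip ρ hx (congrArg (fun f : Module.End (ZMod 5) V => f w) h)

theorem neg_of_inv {t : K} (ht : t * t = 1) (hf : ∀ v : V, ρ t v = v → v = 0) : ρ t = -1 := by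
  ext v
  have := hf (v + ρ t v) (by
    rw [map_add, ← ap_mul, ht, map_one, Module.End.one_apply, add_comm])
  exact eq_neg_of_add_eq_zero_right this

theorem three {g : K} (hg : orderOf g = 3) (hf : ∀ v : V, ρ g v = v → v = 0) :
    ρ g + ρ g⁻¹ = -1 := by
  ext v
  have e : g * g = g⁻¹ := by rw [inv_three hg, pow_two]
  have := hf (v + (ρ g v + ρ g⁻¹ v)) (by
    rw [map_add, map_add, ← ap_mul, ← ap_mul, mul_inv_cancel, e, map_one, Module.End.one_apply]
    abel)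
  exact eq_neg_of_add_eq_zero_right this

theorem three_all [Finite K] {g : K} (hg : orderOf g = 3) (hf : ∀ v : V, ρ g v = v → v = 0)
    (h6 : cz g ≤ 6) (u : K) (hu : orderOf u = 3) : ρ u + ρ u⁻¹ = -1 := by
  have h := three ρ hg hf
  have key : ∀ k : K, ρ (k * g * k⁻¹) + ρ (k * g⁻¹ * k⁻¹) = -1 := fun k => by
    rw [map_mul, map_mul, map_mul, map_mul, ← add_mul, ← mul_add, h, mul_neg, mul_one, neg_mul,
      ← map_mul, mul_inv_cancel, map_one]
  obtain ⟨k, rfl | rfl⟩ := conj_three hg h6 hu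
  · rw [← key k]; congr 2; group
  · rw [← key k, add_comm]; congr 2; group

theorem pow_smul_two {k : K} {v : V} (h : ρ k v = (2 : ZMod 5) • v) (m : ℕ) :
    ρ (k ^ m) v = (2 : ZMod 5) ^ m • v := by
  induction m with
  | zero => simp
  | succ m ih => rw [pow_succ', ap_mul, ih, map_smul, h, smul_smul, pow_succ]

theorem four_dvd {k : K} {v : V} (hv : v ≠ 0) (h : ρ k v = (2 : ZMod 5) • v) {m : ℕ}
    (hm : ρ (k ^ m) v = v) : 4 ∣ m := by
  rw [pow_smul_two ρ h] at hm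
  have h1 : (2 : ZMod 5) ^ m = 1 := by
    by_contra hne
    have : ((2 : ZMod 5) ^ m - 1) • v = 0 := by rw [sub_smul, hm, one_smul, sub_self]
    exact hv ((smul_eq_zero.1 this).resolve_left (sub_ne_zero.2 hne))
  exact ord_two ▸ orderOf_dvd_of_pow_eq_one h1

variable {ρ}

theorem ev2 (hρ : Good 5 ρ) {g : K} {v : V} (h : ρ g v = v) :
    ∃ k : K, k * g = g * k ∧ ρ k v = (2 : ZMod 5) • v :=
  hρ.ev g v (Units.mk0 2 two_ne) h

theorem four_dvd_cz (hρ : Good 5 ρ) {g : K} {v : V} (hv : v ≠ 0) (h : ρ g v = v) :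
    ∃ k : K, g * k = k * g ∧ 4 ∣ orderOf k := by
  obtain ⟨k, h1, h2⟩ := ev2 hρ h
  exact ⟨k, h1.symm, four_dvd ρ hv h2 (by rw [pow_orderOf_eq_one, map_one]; rfl)⟩

theorem eight_dvd [Finite K] (hρ : Good 5 ρ) : 8 ∣ Nat.card K := by
  have := hρ.nontriv
  obtain ⟨v, hv⟩ := exists_ne (0 : V)
  obtain ⟨k, -, h⟩ := four_dvd_cz hρ (g := 1) hv (by rw [map_one]; rfl)
  have := rat_dvd hρ.rat (k ^ (orderOf k / 4))
  rwa [orderOf_pow_orderOf_div (orderOf_pos k).ne' h] at this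

theorem cz_of_neg [Finite K] (hρ : Good 5 ρ) {t : K} (h : ρ t = -1) (y : K) : t * y = y * t := by
  apply hρ.inj
  rw [map_mul, map_mul, h, neg_one_mul, mul_neg_one]

theorem exists_z [Finite K] (hρ : Good 5 ρ) {g : K} (hg : orderOf g = 3)
    (hf : ∀ v : V, ρ g v = v → v = 0) {Q : Subgroup K} [Q.Normal] (hQ : IsPGroup 2 Q)
    (h1 : 1 < Nat.card Q) : ∃ z ∈ Q, (∀ x ∈ Q, Commute z x) ∧ Commute z g ∧ z ≠ 1 := by
  by_contra hc
  push Not at hc
  have hB := lemmaQ ρ (Q ⊓ centralizer (Q : Set K)) hg (by rw [normalizer_eq_top]; trivial)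
    (fun h => hρ.cop (h.trans (card_subgroup_dvd_card _)))
    (fun b hb h => hc b hb.1 (fun x hx => (mem_centralizer_iff.1 hb.2 x hx).symm) h.symm) ⊤
    (fun _ _ _ _ => trivial) (fun _ _ => trivial) (fun w _ => hf w)
  haveI : Nontrivial Q := Finite.one_lt_card_iff_nontrivial.1 h1
  haveI := hQ.center_nontrivial
  obtain ⟨⟨z, hz⟩, hz1⟩ := exists_ne (1 : center Q)
  refine hz1 (Subtype.ext (Subtype.ext (hρ.inj ?_)))
  show ρ z = ρ 1
  rw [map_one]
  ext v
  refine hB z ⟨z.2, mem_centralizer_iff.2 fun x hx => ?_⟩ v trivial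
  exact congrArg Subtype.val (mem_center_iff.1 hz ⟨x, hx⟩)

theorem top [Finite K] (hρ : Good 5 ρ) (hK : PrLe 3 K) {g : K} (hg : orderOf g = 3)
    (hf : ∀ v : V, ρ g v = v → v = 0) (h6 : cz g ≤ 6) : False := by
  obtain ⟨Q, hN, hQ, hi⟩ := exists_Q hK hg h6
  have hdv : ∀ j, 2 ^ (j + 1) ∣ Nat.card K → 2 ^ j ≤ Nat.card Q := by
    intro j h
    have h1 : 2 ^ j * 2 ∣ Nat.card Q * 3 * 2 := by
      rw [← pow_succ, mul_assoc]
      exact h.trans (Q.card_mul_index ▸ Nat.mul_dvd_mul_left _ hi)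
    exact Nat.le_of_dvd Nat.card_pos ((Nat.Coprime.pow_left j (by norm_num)).dvd_of_dvd_mul_right
      (Nat.dvd_of_mul_dvd_mul_right two_pos h1))
  have h4 : 4 ≤ Nat.card Q := hdv 2 (eight_dvd hρ)
  obtain ⟨z, zQ, hzQ, hzg, z1⟩ := exists_z hρ hg hf hQ (by omega)
  have hU : ∀ c, T2 c → g * c = c * g → c = 1 ∨ c = z := fun c c2 hc =>
    or_iff_not_imp_left.2 fun c1 => uniq hg h6 hc hzg.symm.eq c2 (T2.of_mem hQ zQ) c1 z1
  have hz : z * z = 1 := (hU _ (T2.of_mem hQ (Q.mul_mem zQ zQ))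
    (hzg.mul_left hzg).symm.eq).resolve_right fun h => z1 (mul_eq_left.1 h)
  have hZQ : zpowers z ≤ Q := zpowers_le.2 zQ
  have hZc : ∀ w ∈ zpowers z, ∀ x, Commute z x → Commute w x := by
    rintro _ ⟨n, rfl⟩ x hx
    exact hx.zpow_left n
  have Z2 : ρ z * ρ z = 1 := by rw [← map_mul, hz, map_one]
  have zi : z⁻¹ = z := inv_eq_of_mul_eq_one_left hz
  have hs : ∀ x ∈ Q, x ∉ zpowers z → x * x = z := by
    intro x hx hxZ
    rw [mem_Z hz, not_or] at hxZ
    have hxz := hzQ x hx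
    rcases lemE ρ hQ hz z1 hzQ (three_all ρ hg hf h6) (fun u => cz_three hg h6) hg hzg hx
      with e | e | e
    · exact absurd (unip' ρ hρ.inj (T2.of_mem hQ hx) e) hxZ.1
    · refine absurd ?_ hxZ.2
      have := unip' ρ hρ.inj (T2.of_mem hQ (Q.mul_mem hx zQ)) (by
        rw [mul_inv_rev, zi, hxz.inv_right.eq, map_mul, map_mul, ← add_mul, e, add_mul, Z2])
      rw [eq_inv_of_mul_eq_one_left this, zi]
    · have := unip' ρ hρ.inj (T2.of_mem hQ (Q.mul_mem (Q.mul_mem hx hx) zQ)) (by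
        have e1 : ρ x * ρ x⁻¹ = 1 := by rw [← map_mul, mul_inv_cancel, map_one]
        have e2 : ρ x⁻¹ * ρ x = 1 := by rw [← map_mul, inv_mul_cancel, map_one]
        have e3 : ρ x * ρ x + ρ x⁻¹ * ρ x⁻¹ = ρ z + ρ z := by
          calc ρ x * ρ x + ρ x⁻¹ * ρ x⁻¹
              = (ρ x + ρ x⁻¹) * (ρ x + ρ x⁻¹) - ρ x * ρ x⁻¹ - ρ x⁻¹ * ρ x := by noncomm_ring
            _ = ρ z + ρ z + (ρ z * ρ z - 1) := by rw [e, e1, e2]; noncomm_ring
            _ = _ := by rw [Z2, sub_self, add_zero]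
        rw [mul_inv_rev, zi, (hxz.mul_right hxz).inv_right.eq, mul_inv_rev, map_mul, map_mul,
          map_mul, map_mul, ← add_mul, e3, add_mul, Z2])
      rw [eq_inv_of_mul_eq_one_left this, zi]
  obtain ⟨x, hx, hxZ⟩ : ∃ x ∈ Q, x ∉ zpowers z := by
    by_contra hc
    push Not at hc
    have h1 := card_le_of_le (show Q ≤ zpowers z from hc)
    have h2 : orderOf z ≤ 2 := orderOf_le_of_pow_eq_one two_pos (by rw [pow_two, hz])
    rw [Nat.card_zpowers] at h1
    omega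
  have h8 := card_le_eight hz z1 hzQ hs hx hxZ
  obtain ⟨s, hsg, hss⟩ : ∃ s : K, s * g * s⁻¹ = g⁻¹ ∧ s * s ∈ zpowers z := by
    obtain ⟨s, hs⟩ := isConj_iff.1 (hρ.rat.real g)
    have hs' : s * g⁻¹ * s⁻¹ = g := by rw [← conj_inv, hs, inv_inv]
    have c2 : Commute g (s ^ 2) := by
      show g * s ^ 2 = s ^ 2 * g
      calc g * s ^ 2 = s * (s * g * s⁻¹) * s⁻¹ * s ^ 2 := by rw [hs, hs']
        _ = _ := by rw [pow_two]; group
    have d2 : 2 ∣ cz g := by
      have := orderOf_dvd_cz hzg.symm.eq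
      rwa [orderOf_eq_prime (p := 2) (by rw [pow_two, hz]) z1] at this
    have d3 : 3 ∣ cz g := hg ▸ orderOf_dvd_cz (rfl : g * g = g * g)
    have d6 : cz g = 6 := by have := cz_pos g; omega
    have s12 : (s ^ 2) ^ 6 = 1 := orderOf_dvd_iff_pow_eq_one.1 (d6 ▸ orderOf_dvd_cz c2.eq)
    refine ⟨s ^ 2 * s, ?_, ?_⟩
    · calc s ^ 2 * s * g * (s ^ 2 * s)⁻¹ = s ^ 2 * (s * g * s⁻¹) * (s ^ 2)⁻¹ := by group
        _ = _ := by rw [hs, ← c2.inv_left.eq]; group
    · have e : s ^ 2 * s * (s ^ 2 * s) = (s ^ 2) ^ 3 := by group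
      rw [e, mem_Z hz]
      exact hU _ ⟨1, by rw [← pow_mul (s ^ 2)]; exact s12⟩ (c2.pow_right 3).eq
  obtain ⟨a, ha, haZ⟩ : ∃ a ∈ Q, a⁻¹ * (s * a * s⁻¹) ∉ zpowers z := by
    by_contra hc
    push Not at hc
    refine hxZ ((mem_Z hz).2 (hU x (T2.of_mem hQ hx) ?_))
    have y1 : s⁻¹ * x * s ∈ Q := hN.conj_mem' x hx s
    have y2 : g⁻¹ * (s⁻¹ * x * s) * g ∈ Q := hN.conj_mem' _ y1 g
    obtain ⟨w, hw, e⟩ : ∃ w ∈ zpowers z, g * g * x * (g * g)⁻¹ = x * w := by
      refine ⟨_, mul_mem (inv_mem (hc _ y1)) (hc _ y2), ?_⟩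
      have c1 := (hZc _ (hc _ y2) g hzg).eq
      set w := (g⁻¹ * (s⁻¹ * x * s) * g)⁻¹ * (s * (g⁻¹ * (s⁻¹ * x * s) * g) * s⁻¹) with hw
      have e1 : s * g⁻¹ * s⁻¹ = g := by rw [← conj_inv, hsg, inv_inv]
      calc g * g * x * (g * g)⁻¹
          = g * (s * g⁻¹ * s⁻¹) * x * (g * (s * g⁻¹ * s⁻¹))⁻¹ := by rw [e1]
        _ = s⁻¹ * x * s * (g * w) * g⁻¹ := by rw [hw]; group
        _ = _ := by rw [← c1]; group
    have w2 : w * w = 1 := by
      rcases (mem_Z hz).1 hw with rfl | rfl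
      · exact mul_one 1
      · exact hz
    have c1 := (hZc _ hw _ (hzg.mul_right hzg)).eq
    have g4 : g * g * (g * g) = g := by
      rw [← mul_assoc, ← pow_three', cube hg, one_mul]
    rw [← mul_inv_eq_iff_eq_mul, ← g4]
    calc g * g * (g * g) * x * (g * g * (g * g))⁻¹
        = g * g * (g * g * x * (g * g)⁻¹) * (g * g)⁻¹ := by group
      _ = g * g * (x * w) * (g * g)⁻¹ := by rw [e]
      _ = (g * g * x * (g * g)⁻¹) * (g * g * w) * (g * g)⁻¹ := by group
      _ = x * (w * w) := by rw [e, ← c1]; group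
      _ = x := by rw [w2, mul_one]
  have a' : s * a * s⁻¹ ∈ Q := hN.conj_mem a ha s
  have ef : s * a * (s * a) = s * s * (s * a * s⁻¹ * a) := by
    rw [← mul_assoc (s * s), (hZc _ hss _ (hzQ _ a')).eq]; group
  have f2 : s * a * (s * a) ∉ zpowers z := by
    intro h
    rw [ef, mul_mem_cancel_left hss] at h
    have aa : a * a ∈ zpowers z := by
      by_cases h : a ∈ zpowers z
      · exact mul_mem h h
      · rw [hs a ha h]; exact mem_zpowers z
    refine haZ ?_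
    have e : a⁻¹ * (s * a * s⁻¹) = s * a * s⁻¹ * a * (a * a)⁻¹ := by
      calc a⁻¹ * (s * a * s⁻¹) = a⁻¹ * (s * a * s⁻¹ * a) * a⁻¹ := by group
        _ = _ := by rw [← (hZc _ h _ (hzQ _ (Q.inv_mem ha))).eq]; group
    rw [e]
    exact mul_mem h (inv_mem aa)
  have f4 : (s * a) ^ 2 ^ 2 = z := by
    rw [← hs _ (by rw [ef]; exact Q.mul_mem (hZQ hss) (Q.mul_mem a' ha)) f2]
    generalize s * a = f
    rw [pow_two 2, pow_mul, pow_two, pow_two]
  have f8 : orderOf (s * a) = 2 ^ (2 + 1) := orderOf_eq_prime_pow (by rw [f4]; exact z1)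
    (by rw [pow_succ, pow_mul, f4, pow_two, hz])
  have h32 := rat_dvd hρ.rat (s * a)
  rw [f8, Nat.totient_prime_pow_succ Nat.prime_two] at h32
  have := hdv 4 h32
  omega

end mod

end Six

open Six

theorem wSixTop : WSixTop.{u} := fun _ hρ hK _ hg hf h6 => top hρ hK hg hf h6

theorem wSix : WSix.{u} := by
  intro _ H V _ _ _ _ _ ρ hρ hK y hy h6
  have h8 : 8 ≤ Nat.card H := Nat.le_of_dvd Nat.card_pos (eight_dvd hρ)
  have hcen : ∀ t : H, (∀ x, t * x = x * t) → cz t = Nat.card H := fun t ht => by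
    have : centralizer ({t} : Set H) = ⊤ := eq_top_iff.2 fun x _ => mem_cent.2 (ht x)
    rw [cz, this, card_top]
  have hpos : 0 < Nat.card {v : V // ρ y v = v} := by
    haveI : Nonempty {v : V // ρ y v = v} := ⟨⟨0, map_zero _⟩⟩
    exact Nat.card_pos
  have h6' : cz y ≤ 6 := le_trans (Nat.le_mul_of_pos_right _ hpos) h6
  have y1 : y ≠ 1 := by rintro rfl; rw [cz_one] at h6'; omega
  have hf : ∀ v : V, ρ y v = v → v = 0 := by
    intro v hv
    by_contra v0
    have h5 : 5 ≤ Nat.card {v : V // ρ y v = v} := by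
      have := Nat.card_le_card_of_injective
        (fun a : ZMod 5 => (⟨a • v, by rw [map_smul, hv]⟩ : {v : V // ρ y v = v}))
        fun a b h => smul_left_injective (ZMod 5) v0 (congrArg Subtype.val h)
      rwa [Nat.card_zmod] at this
    have h2 : 2 ≤ cz y := by
      have h3 := Nat.le_of_dvd (cz_pos y) (orderOf_dvd_cz (rfl : y * y = y * y))
      have h4 : orderOf y ≠ 1 := fun h => y1 (orderOf_eq_one_iff.1 h)
      have h5 := orderOf_pos y
      omega
    have := Nat.mul_le_mul h2 h5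
    omega
  have y6 : y ^ 6 = 1 := orderOf_dvd_iff_pow_eq_one.1 hy
  haveI : Fact (Nat.Prime 3) := ⟨by norm_num⟩
  have tt : y ^ 3 * y ^ 3 = 1 := by rw [← pow_add, y6]
  have yg : y = y ^ 4 * y ^ 3 := by rw [← pow_add, pow_succ, y6, one_mul]
  by_cases g1 : y ^ 4 = 1
  · rw [g1, one_mul] at yg
    rw [← yg] at tt
    rw [hcen y (cz_of_neg hρ (neg_of_inv ρ tt hf))] at h6'
    omega
  have hg : orderOf (y ^ 4) = 3 :=
    orderOf_eq_prime (by rw [← pow_mul, show 4 * 3 = 6 * 2 from rfl, pow_mul, y6, one_pow]) g1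
  by_cases t1 : y ^ 3 = 1
  · rw [t1, mul_one] at yg
    exact top hρ hK (yg ▸ hg) hf h6'
  have hgt : y ^ 4 * y ^ 3 = y ^ 3 * y ^ 4 := (Commute.pow_pow_self y 4 3).eq
  generalize y ^ 4 = g at yg hg hgt g1
  generalize y ^ 3 = t at yg hgt tt t1
  have ht : orderOf t = 2 := orderOf_eq_prime (by rw [pow_two, tt]) t1
  -- centralizers of `t` in `C(g)` and of `g` in `C(t)` embed in `C(y)`
  have hsub : ∀ (a b : H) (hab : a * b = b * a), y = a * b →
      cz (⟨b, mem_cent.2 hab⟩ : centralizer ({a} : Set H)) ≤ 6 := by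
    intro a b hab e
    refine le_trans (Nat.card_le_card_of_injective
      (fun c => (⟨c.1.1, mem_cent.2 ?_⟩ : centralizer ({y} : Set H))) ?_) h6'
    · have h1 : Commute a c.1.1 := mem_cent.1 c.1.2
      have h2 : Commute b c.1.1 := congrArg Subtype.val (mem_cent.1 c.2)
      rw [e]; exact (h1.mul_left h2).eq
    · intro c d h
      exact Subtype.ext (Subtype.ext (Subtype.mk.inj h))
  have hgf : ∀ v : V, ρ g v = v → v = 0 := by
    intro v hv
    by_contra v0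
    obtain ⟨k, hk, h4⟩ := four_dvd_cz hρ v0 hv
    have h1 := sq_dvd_cz (p := 2) (g := (⟨t, mem_cent.2 hgt⟩ : centralizer ({g} : Set H)))
      (by rw [orderOf_mk, ht]) (h4.trans (orderOf_dvd_cz hk))
    have h2 := orderOf_dvd_cz (x := (⟨t, mem_cent.2 hgt⟩ : centralizer ({g} : Set H)))
      (y := ⟨g, mem_cent.2 rfl⟩) (Subtype.ext hgt.symm)
    rw [orderOf_mk, hg] at h2
    have h3 := hsub g t hgt yg
    have h5 := cz_pos (⟨t, mem_cent.2 hgt⟩ : centralizer ({g} : Set H))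
    omega
  by_cases htf : ∀ v : V, ρ t v = v → v = 0
  · have hc := cz_of_neg hρ (neg_of_inv ρ tt htf)
    refine top hρ hK hg hgf (le_trans (card_le_of_le fun c hc' => mem_cent.2 ?_) h6')
    rw [yg]
    exact (Commute.mul_left (mem_cent.1 hc') (hc c)).eq
  push Not at htf
  obtain ⟨v, hv, v0⟩ := htf
  obtain ⟨k, hk, hkv⟩ := ev2 hρ hv
  let C : Subgroup H := centralizer {t}
  let g' : C := ⟨g, mem_cent.2 hgt.symm⟩
  let t' : C := ⟨t, mem_cent.2 rfl⟩
  let k' : C := ⟨k, mem_cent.2 hk.symm⟩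
  have hg' : orderOf g' = 3 := by rw [orderOf_mk, hg]
  have h6g : cz g' ≤ 6 := hsub t g hgt.symm (yg.trans hgt)
  obtain ⟨Q, hN, hQ, hi⟩ := exists_Q
    (fun q hq h => hK q hq (h.trans (card_subgroup_dvd_card C))) hg' h6g
  have htc : ∀ x : C, Commute t' x := fun x => Subtype.ext (mem_cent.1 x.2)
  have k6 : k' ^ 6 ∈ Q := by
    obtain ⟨m, hm⟩ := hi
    rw [hm, pow_mul]
    exact Q.pow_mem (Q.pow_index_mem k') m
  have e := lemE (ρ.comp C.subtype) hQ (z := t') (Subtype.ext tt)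
    (fun h => t1 (congrArg Subtype.val h)) (fun x _ => htc x)
    (three_all (ρ.comp C.subtype) hg' hgf h6g) (fun u => cz_three hg' h6g) hg' (htc g') k6
  have hv' : (ρ.comp C.subtype) t' v = v := hv
  have e2 := unip (ρ.comp C.subtype) (T2.of_mem hQ k6) (w := v) (by
    rw [← LinearMap.add_apply]
    rcases e with e | e | e <;> rw [e, LinearMap.add_apply] <;>
      simp only [hv', Module.End.one_apply])
  have := four_dvd (ρ.comp C.subtype) (k := k') v0 hkv e2
  omega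

end Cfsg.Lib.DCS
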