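import Cfsg.Agent.DCS.Defs

/-! Tower DCS: for a group all of whose elements are real, weights of a coprime module are closed
under inversion. -/

set_option autoImplicit false

namespace Cfsg.Lib.DCS

open Subgroup Representation TensorProduct

universe u

namespace WLp

variable {H K : Type*} [Group H] [Fintype H] [Field K]

theorem irr [IsAlgClosed K] [Invertible (Nat.card H : K)] (hr : ∀ g : H, IsConj g g⁻¹)
    {M : Type*} [AddCommGroup M] [Module K M] [FiniteDimensional K M]
    (τ : Representation K H M) [τ.IsIrreducible] (c : H → K)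
    (h : ∀ v, ∑ g, c g⁻¹ • τ g v = 0) (v : M) : ∑ g, c g • τ g v = 0 := by
  have hχ : ∀ g, τ.dual.character g = τ.character g := by
    intro g
    obtain ⟨y, hy⟩ := isConj_iff.1 (hr g)
    rw [char_dual, ← hy, char_conj]
  have h1 := card_inv_mul_sum_char_mul_char_eq_finrank τ τ.dual
  simp only [hχ] at h1
  rw [card_inv_mul_sum_char_mul_char_eq_finrank τ τ,
    IsIrreducible.finrank_intertwiningMap_self] at h1
  have hne : Module.finrank K (IntertwiningMap τ τ.dual) ≠ 0 := by
    intro e; rw [e] at h1; simp at h1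
  obtain ⟨f, hf⟩ : ∃ f : IntertwiningMap τ τ.dual, f ≠ 0 := by
    by_contra hn
    push Not at hn
    have : Subsingleton (IntertwiningMap τ τ.dual) := ⟨fun a b => by rw [hn a, hn b]⟩
    exact hne Module.finrank_zero_of_subsingleton
  have hi : Function.Injective f := (IsIrreducible.injective_or_eq_zero f).resolve_right hf
  have hs : Function.Surjective f.toLinearMap :=
    (LinearMap.injective_iff_surjective_of_finrank_eq_finrank
      (Subspace.dual_finrank_eq (K := K) (V := M)).symm).1 hi
  rw [← Module.forall_dual_apply_eq_zero_iff K]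
  intro φ
  obtain ⟨w, rfl⟩ := hs φ
  have h2 := congrArg (fun x => f.toLinearMap x v) (h w)
  simp only [map_sum, map_smul, map_zero, LinearMap.zero_apply, LinearMap.coe_sum,
    Finset.sum_apply, LinearMap.smul_apply] at h2
  rw [map_sum, ← h2]
  refine Fintype.sum_equiv (Equiv.inv H) _ _ fun g => ?_
  have := IntertwiningMap.isIntertwining τ τ.dual f g⁻¹ w
  simp only [Equiv.inv_apply, inv_inv, map_smul, IntertwiningMap.toLinearMap_apply, this,
    dual_apply]
  rfl

theorem gen [IsAlgClosed K] [Invertible (Nat.card H : K)] (hr : ∀ g : H, IsConj g g⁻¹) (c : H → K)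
    (n : ℕ) : ∀ {M : Type u} [AddCommGroup M] [Module K M] [FiniteDimensional K M]
    (τ : Representation K H M), Module.finrank K M = n → (∀ v, ∑ g, c g⁻¹ • τ g v = 0) →
    ∀ v, ∑ g, c g • τ g v = 0 := by
  induction n using Nat.strong_induction_on with
  | _ n ih =>
  intro M _ _ _ τ hn h v
  have : NeZero (Nat.card H : K) := ⟨Invertible.ne_zero _⟩
  by_cases hM : Subsingleton M
  · exact Subsingleton.elim _ _
  by_cases hI : τ.IsIrreducible
  · exact irr hr τ c h v
  have sub : ∀ N : Subrepresentation τ, N ≠ ⊤ → ∀ w ∈ N.toSubmodule, ∑ g, c g • τ g w = 0 := by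
    intro N hN w hw
    have hlt : Module.finrank K N.toSubmodule < n := by
      rw [← hn]
      exact Submodule.finrank_lt fun e => hN (Subrepresentation.toSubmodule_injective e)
    have := ih _ hlt N.toRepresentation rfl (fun x => Subtype.ext (by
      have := h x.1
      rw [Submodule.coe_sum]
      exact this)) ⟨w, hw⟩
    have := congrArg Subtype.val this
    rw [Submodule.coe_sum] at this
    exact this
  have hnt : Nontrivial (Subrepresentation τ) := by
    refine ⟨⊥, ⊤, fun e => hM ⟨fun a b => ?_⟩⟩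
    have e' : (⊥ : Submodule K M) = ⊤ := congrArg Subrepresentation.toSubmodule e
    have ha : a - b ∈ (⊥ : Submodule K M) := e' ▸ Submodule.mem_top
    exact sub_eq_zero.1 ha
  obtain ⟨N, hN0, hN1⟩ : ∃ N : Subrepresentation τ, N ≠ ⊥ ∧ N ≠ ⊤ := by
    by_contra hc
    push Not at hc
    exact hI ⟨fun N => or_iff_not_imp_left.2 (hc N)⟩
  obtain ⟨N', hN'⟩ := exists_isCompl N
  have hN'1 : N' ≠ ⊤ := fun e => hN0 (by rw [e] at hN'; exact eq_bot_of_isCompl_top hN')
  have hv : v ∈ N.toSubmodule ⊔ N'.toSubmodule := by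
    rw [← Subrepresentation.toSubmodule_sup, hN'.sup_eq_top]; trivial
  obtain ⟨a, ha, b, hb, rfl⟩ := Submodule.mem_sup.1 hv
  simp only [map_add, smul_add, Finset.sum_add_distrib, sub N hN1 a ha, sub N' hN'1 b hb, add_zero]

end WLp

theorem wL : WL.{u} := by
  classical
  intro p _ H V _ _ _ _ _ ρ hp hr D ν v hv hν
  have := Fintype.ofFinite H
  let K := AlgebraicClosure (ZMod p)
  have hK : (Nat.card H : K) ≠ 0 := by
    rw [Ne, CharP.cast_eq_zero_iff K p]; exact hp
  have := invertibleOfNonzero hK
  let c : H → ZMod p := fun g => if h : g ∈ D then (((ν ⟨g, h⟩)⁻¹ : (ZMod p)ˣ) : ZMod p) else 0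
  let τ : Representation K H (K ⊗[ZMod p] V) :=
    (Module.End.baseChangeHom (ZMod p) K V).toMonoidHom.comp ρ
  have hT : ∀ d : H → ZMod p, ∑ g, algebraMap (ZMod p) K (d g) • τ g =
      Module.End.baseChangeHom (ZMod p) K V (∑ g, d g • ρ g) := by
    intro d
    simp only [map_sum, map_smul, algebraMap_smul]
    rfl
  have hinj : Function.Injective (Module.End.baseChangeHom (ZMod p) K V) :=
    LinearMap.baseChangeHom_injective (ZMod p) V K
  -- the sum with inverted coefficients is not zero
  have hne : ∑ g, c g⁻¹ • ρ g ≠ 0 := by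
    intro e
    have h1 := WLp.gen hr (fun g => algebraMap (ZMod p) K (c g)) _ τ rfl (fun x => by
      have := congrArg (fun f => f x) (hT fun g => c g⁻¹)
      simp only [LinearMap.coe_sum, Finset.sum_apply, LinearMap.smul_apply] at this
      rw [this, e, map_zero, LinearMap.zero_apply])
    have h2 : ∑ g, c g • ρ g = 0 := by
      apply hinj
      rw [← hT, map_zero]
      refine LinearMap.ext fun x => ?_
      simpa only [LinearMap.coe_sum, Finset.sum_apply, LinearMap.smul_apply,
        LinearMap.zero_apply] using h1 x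
    have h3 : ∑ g, c g • ρ g v = ∑ g : H, if g ∈ D then v else 0 := by
      refine Finset.sum_congr rfl fun g _ => ?_
      by_cases hg : g ∈ D
      · simp only [c, dif_pos hg, if_pos hg]
        rw [hν ⟨g, hg⟩, smul_smul, Units.inv_mul, one_smul]
      · simp only [c, dif_neg hg, if_neg hg, zero_smul]
    have h4 := congrArg (fun f => f v) h2
    simp only [LinearMap.coe_sum, Finset.sum_apply, LinearMap.smul_apply,
      LinearMap.zero_apply] at h4
    rw [h3, ← Finset.sum_filter, Finset.sum_const, ← Nat.cast_smul_eq_nsmul (ZMod p),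
      smul_eq_zero] at h4
    rcases h4 with h | h
    · rw [ZMod.natCast_eq_zero_iff, ← Fintype.card_subtype, ← Nat.card_eq_fintype_card] at h
      exact hp (h.trans (card_subgroup_dvd_card D))
    · exact hv h
  obtain ⟨w, hw⟩ : ∃ w, (∑ g, c g⁻¹ • ρ g) w ≠ 0 := by
    by_contra hc
    push Not at hc
    exact hne (LinearMap.ext hc)
  refine ⟨_, hw, fun d => ?_⟩
  simp only [LinearMap.coe_sum, Finset.sum_apply, LinearMap.smul_apply, map_sum, map_smul,
    Finset.smul_sum]
  refine Fintype.sum_equiv (Equiv.mulLeft (d : H)) _ _ fun g => ?_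
  simp only [Equiv.coe_mulLeft, map_mul, Module.End.mul_apply, smul_smul]
  congr 1
  by_cases hg : g⁻¹ ∈ D
  · have hg' : ((d : H) * g)⁻¹ ∈ D := by rw [mul_inv_rev]; exact D.mul_mem hg (D.inv_mem d.2)
    simp only [c, dif_pos hg, dif_pos hg']
    have : (⟨((d : H) * g)⁻¹, hg'⟩ : D) = ⟨g⁻¹, hg⟩ * d⁻¹ := Subtype.ext (by simp)
    rw [this, map_mul, map_inv, mul_inv_rev, inv_inv, Units.val_mul, ← mul_assoc, Units.inv_mul,
      one_mul]
  · have hg' : ((d : H) * g)⁻¹ ∉ D := fun h => hg (by
      have := D.mul_mem h d.2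
      rwa [mul_inv_rev, inv_mul_cancel_right] at this)
    simp only [c, dif_neg hg, dif_neg hg', mul_zero]

end Cfsg.Lib.DCS
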